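import Mathlib
import Cfsg.Agent.Fischer920.PsuEnd

set_option autoImplicit false

/-!
# Hermitian spaces over the field with four elements: separation by isotropic vectors
-/

namespace Cfsg.Agent.S0480U.Herm

open Cfsg Cfsg.Agent.Fischer920.PsuEnd

variable {F V : Type*} [Field F] [Fintype F] [AddCommGroup V] [Module F V] {h : V → V → F}

section Field

theorem pow_three (hF : Fintype.card F = 4) {c : F} (hc : c ≠ 0) : c ^ 3 = 1 := by
  have := FiniteField.pow_card_sub_one_eq_one c hc
  rwa [hF] at this

theorem pow_four (hF : Fintype.card F = 4) (c : F) : c ^ 4 = c := by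
  have := FiniteField.pow_card c
  rwa [hF] at this

theorem charP (hF : Fintype.card F = 4) : CharP F 2 := by
  have h1 : (Fintype.card F : F) = 0 := Nat.cast_card_eq_zero F
  rw [hF] at h1
  have h2 : (2 : F) = 0 := by
    have h3 : (2 : F) * 2 = 0 := by
      have : ((4 : ℕ) : F) = 2 * 2 := by norm_num
      rw [← this]; exact h1
    rcases mul_eq_zero.1 h3 with h4 | h4 <;> exact h4
  exact CharTwo.of_one_ne_zero_of_two_eq_zero one_ne_zero h2

theorem add_self (hF : Fintype.card F = 4) (c : F) : c + c = 0 := by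
  have := charP hF
  exact CharTwo.add_self_eq_zero c

theorem two_eq (hF : Fintype.card F = 4) : (2 : F) = 0 := by
  have := add_self hF (1 : F)
  rw [← this]; norm_num

theorem neg_eq (hF : Fintype.card F = 4) (c : F) : -c = c := by
  have := charP hF
  exact CharTwo.neg_eq c

theorem exists_omega (hF : Fintype.card F = 4) : ∃ w : F, w ^ 2 + w = 1 ∧ w ≠ 0 ∧ w ≠ 1 := by
  classical
  have h2 : ({0, 1} : Finset F).card < Fintype.card F := by
    rw [hF]
    have := Finset.card_le_two (a := (0 : F)) (b := 1)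
    omega
  obtain ⟨w, -, hw⟩ := Finset.exists_mem_notMem_of_card_lt_card
    (s := ({0, 1} : Finset F)) (t := Finset.univ) (by rwa [Finset.card_univ])
  rw [Finset.mem_insert, Finset.mem_singleton, not_or] at hw
  refine ⟨w, ?_, hw.1, hw.2⟩
  have h3 := pow_three hF hw.1
  have h4 : (w - 1) * (w ^ 2 + w + 1) = 0 := by ring_nf; rw [h3]; ring
  rcases mul_eq_zero.1 h4 with h5 | h5
  · exact absurd (sub_eq_zero.1 h5) hw.2
  · have h6 := eq_neg_of_add_eq_zero_left h5
    rw [h6, neg_eq hF]

end Field

section Space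

variable (hF : Fintype.card F = 4) (H : HermSp F V h)
include H

theorem zero_left (v : V) : h 0 v = 0 := by
  have := H.smul_left 0 0 v
  rwa [zero_smul, zero_mul] at this

theorem zero_right (v : V) : h v 0 = 0 := by
  rw [H.swap, zero_left H, zero_pow two_ne_zero]

theorem swap_zero {u v : V} (h1 : h u v = 0) : h v u = 0 := by
  rw [H.swap, h1, zero_pow two_ne_zero]

theorem zero_iff {u v : V} : h u v = 0 ↔ h v u = 0 := ⟨swap_zero H, swap_zero H⟩

include hF

theorem add_right (u v v' : V) : h u (v + v') = h u v + h u v' :=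
  H.add_right (by rw [hF]; norm_num) u v v'

theorem self_eq (v : V) : h v v = 0 ∨ h v v = 1 := by
  have h1 := H.swap v v
  have h2 : h v v * (h v v - 1) = 0 := by
    rw [mul_sub, mul_one, ← sq, ← h1, sub_self]
  rcases mul_eq_zero.1 h2 with h3 | h3
  · exact Or.inl h3
  · exact Or.inr (sub_eq_zero.1 h3)

/-- `u` isotropic, `h u v = 1`: adding a multiple of `u` makes `v` isotropic -/
theorem exists_adjust {u v : V} (hu : h u u = 0) (huv : h u v = 1) :
    ∃ c : F, h (v + c • u) (v + c • u) = 0 := by
  have hvu : h v u = 1 := by rw [H.swap, huv, one_pow]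
  have key : ∀ c : F, h (v + c • u) (v + c • u) = h v v + (c ^ 2 + c) := by
    intro c
    rw [H.add_left, add_right hF H, add_right hF H, H.smul_right, H.smul_left, H.smul_left,
      H.smul_right, hu, huv, hvu]
    ring
  rcases self_eq hF H v with h1 | h1
  · exact ⟨0, by rw [key, h1]; ring⟩
  · obtain ⟨w, hw, -, -⟩ := exists_omega hF
    exact ⟨w, by rw [key, h1, hw, add_self hF]⟩

variable [FiniteDimensional F V]

/-- every linear form is `h · v` -/
theorem exists_repr (φ : V →ₗ[F] F) : ∃ v, ∀ u, h u v = φ u := by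
  obtain ⟨e, he⟩ := exists_isometry (by rw [hF]; norm_num) H (n := Module.finrank F V) rfl
  classical
  let v₀ : Fin (Module.finrank F V) → F := fun i => (φ (e.symm (Pi.single i 1))) ^ 2
  refine ⟨e.symm v₀, ?_⟩
  intro u
  rw [← he, e.apply_symm_apply]
  have hu : u = e.symm (∑ i, (e u i) • (Pi.single i (1 : F) : Fin (Module.finrank F V) → F)) := by
    apply e.injective
    rw [e.apply_symm_apply]
    ext j
    rw [Finset.sum_apply, Finset.sum_eq_single j]
    · simp
    · intro i _ hij
      simp [hij.symm]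
    · intro hj; exact absurd (Finset.mem_univ j) hj
  conv_rhs => rw [hu]
  rw [map_sum, map_sum]
  unfold hermForm
  refine Finset.sum_congr rfl fun i _ => ?_
  rw [map_smul, map_smul, smul_eq_mul]
  congr 1
  show (φ (e.symm (Pi.single i 1)) ^ 2) ^ 2 = _
  rw [← pow_mul]
  exact pow_four hF _

/-- separation of a vector from a subspace -/
theorem exists_sep {S : Submodule F V} {u : V} (hu : u ∉ S) :
    ∃ v, (∀ s ∈ S, h s v = 0) ∧ h u v = 1 := by
  obtain ⟨f, hf, hfS⟩ := Submodule.exists_le_ker_of_notMem hu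
  obtain ⟨v, hv⟩ := exists_repr hF H ((f u)⁻¹ • f)
  refine ⟨v, ?_, ?_⟩
  · intro s hs
    rw [hv]
    have : f s = 0 := LinearMap.mem_ker.1 (hfS hs)
    simp [this]
  · rw [hv]
    simp [inv_mul_cancel₀ hf]

/-- separation of an isotropic vector `u`, orthogonal to `S`, from `S`, by an isotropic vector -/
theorem exists_sep_iso {S : Submodule F V} {u : V} (hu : u ∉ S) (huu : h u u = 0)
    (hSu : ∀ s ∈ S, h s u = 0) :
    ∃ v, h v v = 0 ∧ (∀ s ∈ S, h s v = 0) ∧ h u v = 1 := by
  obtain ⟨v, hv, huv⟩ := exists_sep hF H hu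
  obtain ⟨c, hc⟩ := exists_adjust hF H huu huv
  refine ⟨v + c • u, hc, ?_, ?_⟩
  · intro s hs
    rw [add_right hF H, H.smul_right, hv s hs, hSu s hs]
    ring
  · rw [add_right hF H, H.smul_right, huv, huu]
    ring

end Space

/-! ### The subspace orthogonal to a hyperbolic pair -/

section Perp

/-- `v ↦ (h v a, h v b)` -/
def pairMap (H : HermSp F V h) (a b : V) : V →ₗ[F] F × F where
  toFun v := (h v a, h v b)
  map_add' u v := by rw [H.add_left, H.add_left]; rfl
  map_smul' c v := by rw [H.smul_left, H.smul_left]; rfl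

/-- the vectors orthogonal to `a` and `b` -/
def perp2 (H : HermSp F V h) (a b : V) : Submodule F V := LinearMap.ker (pairMap H a b)

theorem mem_perp2 (H : HermSp F V h) {a b v : V} : v ∈ perp2 H a b ↔ h v a = 0 ∧ h v b = 0 := by
  rw [perp2, LinearMap.mem_ker]
  show (h v a, h v b) = (0, 0) ↔ _
  rw [Prod.mk_inj]

variable (hF : Fintype.card F = 4) (H : HermSp F V h)
include H hF

/-- decomposition with respect to a hyperbolic pair -/
theorem exists_decomp {a b : V} (ha : h a a = 0) (hb : h b b = 0) (hab : h a b ≠ 0) (v : V) :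
    ∃ (p : V) (α β : F), p ∈ perp2 H a b ∧ v = p + α • a + β • b := by
  have hba : h b a ≠ 0 := fun h1 => hab (swap_zero H h1)
  refine ⟨v - (h v b / h a b) • a - (h v a / h b a) • b, h v b / h a b, h v a / h b a, ?_, ?_⟩
  · have hsub : ∀ x y z : V, h (x - y) z = h x z - h y z := by
      intro x y z
      rw [sub_eq_add_neg, H.add_left, ← neg_one_smul F y, H.smul_left]
      ring
    rw [mem_perp2, hsub, hsub, hsub, hsub, H.smul_left, H.smul_left, H.smul_left, H.smul_left, ha,
      hb, div_mul_cancel₀ _ hab, div_mul_cancel₀ _ hba]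
    constructor <;> ring
  · abel

theorem hermSp_perp2 {a b : V} (ha : h a a = 0) (hb : h b b = 0) (hab : h a b ≠ 0) :
    HermSp F (perp2 H a b) (fun u v => h u v) where
  add_left u u' v := H.add_left u u' v
  smul_left c u v := H.smul_left c u v
  swap u v := H.swap u v
  nondeg u hu := by
    have hu2 := (mem_perp2 H).1 u.2
    apply Subtype.ext
    apply H.nondeg
    intro v
    obtain ⟨p, α, β, hp, rfl⟩ := exists_decomp hF H ha hb hab v
    rw [add_right hF H, add_right hF H, H.smul_right, H.smul_right, hu2.1, hu2.2]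
    have := hu ⟨p, hp⟩
    rw [show h (u : V) p = 0 from this]
    ring

theorem finrank_perp2 [FiniteDimensional F V] {a b : V} (ha : h a a = 0) (hb : h b b = 0)
    (hab : h a b ≠ 0) :
    Module.finrank F (perp2 H a b) + 2 = Module.finrank F V := by
  have hba : h b a ≠ 0 := fun h1 => hab (swap_zero H h1)
  have h1 := LinearMap.finrank_range_add_finrank_ker (pairMap H a b)
  have h2 : LinearMap.range (pairMap H a b) = ⊤ := by
    rw [LinearMap.range_eq_top]
    rintro ⟨s, t⟩
    refine ⟨(s / h b a) • b + (t / h a b) • a, ?_⟩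
    show (h _ a, h _ b) = (s, t)
    rw [H.add_left, H.add_left, H.smul_left, H.smul_left, H.smul_left, H.smul_left, ha, hb,
      div_mul_cancel₀ _ hab, div_mul_cancel₀ _ hba, Prod.mk_inj]
    constructor <;> ring
  rw [h2, finrank_top, Module.finrank_prod, Module.finrank_self] at h1
  have h3 : Module.finrank F (perp2 H a b) = Module.finrank F (LinearMap.ker (pairMap H a b)) := rfl
  omega

/-- in dimension at least two every non zero vector is not orthogonal to some isotropic vector -/
theorem exists_iso_ne [FiniteDimensional F V] (hn : 2 ≤ Module.finrank F V) {u : V} (hu : u ≠ 0) :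
    ∃ v, h v v = 0 ∧ h u v ≠ 0 := by
  classical
  obtain ⟨e, he⟩ := exists_isometry (by rw [hF]; norm_num) H (n := Module.finrank F V) rfl
  have heu : e u ≠ 0 := fun h1 => hu (e.map_eq_zero_iff.1 h1)
  obtain ⟨i, hi⟩ := Function.ne_iff.1 heu
  have : Nontrivial (Fin (Module.finrank F V)) := Fin.nontrivial_iff_two_le.2 hn
  obtain ⟨j, hij⟩ := exists_ne i
  have key : ∀ c : F, c ≠ 0 → ∃ v, h v v = 0 ∧ h u v = e u i + e u j * c ^ 2 := by
    intro c hc
    refine ⟨e.symm (Pi.single i 1 + Pi.single j c), ?_, ?_⟩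
    · rw [← he, e.apply_symm_apply]
      unfold hermForm
      rw [← Finset.add_sum_erase _ _ (Finset.mem_univ i),
        ← Finset.add_sum_erase _ _ (Finset.mem_erase.2 ⟨hij, Finset.mem_univ j⟩),
        Finset.sum_eq_zero]
      · simp only [Pi.add_apply, Pi.single_eq_same, Pi.single_eq_of_ne hij,
          Pi.single_eq_of_ne hij.symm]
        have := pow_three hF hc
        have h2 := two_eq hF
        calc (1 + 0) * (1 + 0) ^ 2 + ((0 + c) * (0 + c) ^ 2 + 0) = 1 + c ^ 3 := by ring
          _ = 2 := by rw [this]; norm_num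
          _ = 0 := h2
      · intro k hk
        rw [Finset.mem_erase, Finset.mem_erase] at hk
        simp [Pi.single_apply, hk.1, hk.2.1]
    · rw [← he, e.apply_symm_apply]
      unfold hermForm
      rw [← Finset.add_sum_erase _ _ (Finset.mem_univ i),
        ← Finset.add_sum_erase _ _ (Finset.mem_erase.2 ⟨hij, Finset.mem_univ j⟩),
        Finset.sum_eq_zero]
      · simp only [Pi.add_apply, Pi.single_eq_same, Pi.single_eq_of_ne hij,
          Pi.single_eq_of_ne hij.symm]
        ring
      · intro k hk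
        rw [Finset.mem_erase, Finset.mem_erase] at hk
        simp [Pi.single_apply, hk.1, hk.2.1]
  by_cases h1 : e u i + e u j * 1 ^ 2 = 0
  · obtain ⟨w, hw, hw0, hw1⟩ := exists_omega hF
    obtain ⟨v, hv, huv⟩ := key w hw0
    refine ⟨v, hv, ?_⟩
    rw [huv]
    intro h2
    have h3 : e u j * (w ^ 2 - 1) = 0 := by linear_combination h2 - h1
    rcases mul_eq_zero.1 h3 with h4 | h4
    · rw [h4] at h1
      apply hi
      rw [Pi.zero_apply]
      linear_combination h1
    · have h5 : w = 0 := by linear_combination hw - h4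
      exact hw0 h5
  · obtain ⟨v, hv, huv⟩ := key 1 one_ne_zero
    exact ⟨v, hv, by rw [huv]; exact h1⟩

/-- separation from a hyperbolic line by an isotropic vector -/
theorem exists_sep_hyp [FiniteDimensional F V] (hn : 4 ≤ Module.finrank F V) {a b u : V}
    (ha : h a a = 0) (hb : h b b = 0) (hab : h a b ≠ 0) (hu : ∀ α β : F, u ≠ α • a + β • b) :
    ∃ v, h v v = 0 ∧ h a v = 0 ∧ h b v = 0 ∧ h u v ≠ 0 := by
  obtain ⟨p, α, β, hp, hup⟩ := exists_decomp hF H ha hb hab u
  have hp0 : p ≠ 0 := by
    rintro rfl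
    exact hu α β (by rw [hup, zero_add])
  have hK := hermSp_perp2 hF H ha hb hab
  have hdim := finrank_perp2 hF H ha hb hab
  obtain ⟨v, hv, hpv⟩ := exists_iso_ne hF hK (by omega) (u := ⟨p, hp⟩)
    (fun h1 => hp0 (congrArg Subtype.val h1))
  have hv2 := (mem_perp2 H).1 v.2
  have hav : h a (v : V) = 0 := swap_zero H hv2.1
  have hbv : h b (v : V) = 0 := swap_zero H hv2.2
  refine ⟨v, hv, hav, hbv, ?_⟩
  rw [hup, H.add_left, H.add_left, H.smul_left, H.smul_left, hav, hbv]
  intro h1
  apply hpv
  show h p (v : V) = 0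
  linear_combination h1

end Perp

end Cfsg.Agent.S0480U.Herm
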