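import Mathlib
import Cfsg.Agent.S0480U.Herm
import Cfsg.Agent.ThreeTransPolar.Lines
import Cfsg.Agent.Fischer480.Defs
import Cfsg.Agent.LieClassical.HermCount

set_option autoImplicit false

/-!
# Sets of elements with the commutation of the isotropic points of a Hermitian space over `F_4`
-/

namespace Cfsg.Agent.S0480U.UModel

open Cfsg Cfsg.Agent.SporadicStructure.FischerSpace Cfsg.Agent.ThreeTransPolar.Basic
open Cfsg.Agent.ThreeTransPolar.Lines Cfsg.Agent.Fischer920.PsuEnd Cfsg.Agent.S0480U.Herm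
open Cfsg.Agent.Fischer480.Defs

variable {G : Type*} [Group G]

/-- `E` has the commutation of the isotropic points of the Hermitian space `(V, h)` -/
structure UM {F V : Type*} [Field F] [Fintype F] [AddCommGroup V] [Module F V] (h : V → V → F)
    (n : ℕ) (E : Set G) (f : G → V) : Prop where
  card : Fintype.card F = 4
  herm : HermSp F V h
  fin : FiniteDimensional F V
  dim : Module.finrank F V = n
  ne : ∀ x ∈ E, f x ≠ 0
  iso : ∀ x ∈ E, h (f x) (f x) = 0
  comm : ∀ x ∈ E, ∀ y ∈ E, Commute x y ↔ h (f x) (f y) = 0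
  inj : ∀ x ∈ E, ∀ y ∈ E, ∀ c : F, f x = c • f y → x = y
  surj : ∀ v : V, v ≠ 0 → h v v = 0 → ∃ x ∈ E, ∃ c : F, v = c • f x

theorem exists_um {n : ℕ} {E : Set G} (hU : IsU n E) :
    ∃ (F : Type) (_ : Field F) (_ : Fintype F) (f : G → Fin n → F), UM (hermForm n F 2) n E f := by
  obtain ⟨F, i1, i2, f, hF, hne, hiso, hcomm, hinj, hsurj⟩ := hU
  refine ⟨F, i1, i2, f, hF, ?_, inferInstance, by simp, hne, hiso, hcomm, hinj, hsurj⟩
  have hF' : Fintype.card F = 2 ^ 2 := by rw [hF]; norm_num
  refine ⟨?_, ?_, ?_, ?_⟩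
  · intro u u' v
    simp only [hermForm, Pi.add_apply, add_mul, Finset.sum_add_distrib]
  · intro c u v
    simp only [hermForm, Pi.smul_apply, smul_eq_mul, mul_assoc, Finset.mul_sum]
  · intro u v
    exact Cfsg.Agent.LieClassical.HermBasic.herm_swap hF' u v
  · intro u hu
    exact Cfsg.Agent.LieClassical.HermBasic.herm_nondeg hF' hu

theorem isU_of_um {F : Type} {V : Type*} [Field F] [Fintype F] [AddCommGroup V] [Module F V]
    {h : V → V → F} {n : ℕ} {E : Set G} {f : G → V} (U : UM h n E f) : IsU n E := by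
  have hfin := U.fin
  have hF' : Fintype.card F = 2 ^ 2 := by rw [U.card]; norm_num
  obtain ⟨e, he⟩ := exists_isometry hF' U.herm U.dim
  refine ⟨F, inferInstance, inferInstance, fun g => e (f g), U.card, ?_, ?_, ?_, ?_, ?_⟩
  · intro x hx h1
    exact U.ne x hx (e.map_eq_zero_iff.1 h1)
  · intro x hx
    rw [he]; exact U.iso x hx
  · intro x hx y hy
    rw [he]; exact U.comm x hx y hy
  · intro x hx y hy c hc
    apply U.inj x hx y hy c
    apply e.injective
    rw [map_smul]; exact hc
  · intro v hv hvv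
    obtain ⟨x, hx, c, hc⟩ := U.surj (e.symm v) (by
      intro h1; exact hv (e.symm.map_eq_zero_iff.1 h1)) (by
      rw [← he, e.apply_symm_apply]; exact hvv)
    exact ⟨x, hx, c, by rw [← map_smul, ← hc, e.apply_symm_apply]⟩

section

variable {F V : Type*} [Field F] [Fintype F] [AddCommGroup V] [Module F V] {h : V → V → F}
variable {n : ℕ} {E : Set G} {f : G → V} (U : UM h n E f)
include U

/-! ### Points -/

theorem exists_pt {v : V} (hv : v ≠ 0) (hvv : h v v = 0) :
    ∃ x ∈ E, ∃ c : F, c ≠ 0 ∧ f x = c • v := by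
  obtain ⟨x, hx, c, hc⟩ := U.surj v hv hvv
  have hc0 : c ≠ 0 := by
    rintro rfl
    exact hv (by rw [hc, zero_smul])
  exact ⟨x, hx, c⁻¹, inv_ne_zero hc0, by rw [hc, inv_smul_smul₀ hc0]⟩

theorem h_combo {y z : G} (hy : y ∈ E) (hz : z ∈ E) (hc : Commute y z) (α β : F) :
    h (α • f y + β • f z) (α • f y + β • f z) = 0 := by
  have H := U.herm
  have hyz := (U.comm y hy z hz).1 hc
  have hzy := (U.comm z hz y hy).1 hc.symm
  rw [H.add_left, H.smul_left, H.smul_left, add_right U.card H, add_right U.card H,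
    H.smul_right, H.smul_right, H.smul_right, H.smul_right, U.iso y hy, U.iso z hz, hyz, hzy]
  ring

theorem combo_ne {y z : G} (hy : y ∈ E) (hz : z ∈ E) (hyz : y ≠ z) {α β : F}
    (hαβ : α ≠ 0 ∨ β ≠ 0) : α • f y + β • f z ≠ 0 := by
  intro h1
  rcases hαβ with hα | hβ
  · apply hyz
    apply U.inj y hy z hz (-(α⁻¹ * β))
    have : α • f y = -(β • f z) := eq_neg_of_add_eq_zero_left h1
    rw [neg_smul, mul_smul, ← smul_neg, ← this, inv_smul_smul₀ hα]
  · apply hyz.symm
    apply U.inj z hz y hy (-(β⁻¹ * α))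
    have : β • f z = -(α • f y) := eq_neg_of_add_eq_zero_right h1
    rw [neg_smul, mul_smul, ← smul_neg, ← this, inv_smul_smul₀ hβ]

/-! ### Totally isotropic lines -/

theorem mem_line_iff {y z : G} (hy : y ∈ E) (hz : z ∈ E) (hc : Commute y z) {u : G} :
    u ∈ Line E y z ↔ u ∈ E ∧ ∃ α β : F, f u = α • f y + β • f z := by
  have H := U.herm
  have hfin := U.fin
  constructor
  · rintro ⟨hu, hall⟩
    refine ⟨hu, ?_⟩
    have hyu : Commute y u := hall y hy (Commute.refl y) hc
    have hzu : Commute z u := hall z hz hc.symm (Commute.refl z)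
    by_contra hcon
    have hnot : f u ∉ Submodule.span F {f y, f z} := by
      intro h1
      obtain ⟨α, β, hαβ⟩ := Submodule.mem_span_pair.1 h1
      exact hcon ⟨α, β, hαβ.symm⟩
    obtain ⟨v, hvv, hv, huv⟩ := exists_sep_iso U.card H hnot (U.iso u hu) (by
      intro s hs
      obtain ⟨α, β, rfl⟩ := Submodule.mem_span_pair.1 hs
      rw [H.add_left, H.smul_left, H.smul_left, (U.comm y hy u hu).1 hyu,
        (U.comm z hz u hu).1 hzu]
      ring)
    have hv0 : v ≠ 0 := by
      rintro rfl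
      rw [zero_right H] at huv
      exact zero_ne_one huv
    obtain ⟨d, hd, c, hc0, hfd⟩ := exists_pt U hv0 hvv
    have hdy : Commute d y := by
      rw [U.comm d hd y hy, hfd, H.smul_left,
        swap_zero H (hv (f y) (Submodule.subset_span (by simp))), mul_zero]
    have hdz : Commute d z := by
      rw [U.comm d hd z hz, hfd, H.smul_left,
        swap_zero H (hv (f z) (Submodule.subset_span (by simp))), mul_zero]
    have hdu := (U.comm d hd u hu).1 (hall d hd hdy hdz)
    rw [hfd, H.smul_left] at hdu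
    rcases mul_eq_zero.1 hdu with h2 | h2
    · exact hc0 h2
    · have := swap_zero H h2
      rw [huv] at this
      exact one_ne_zero this
  · rintro ⟨hu, α, β, hαβ⟩
    refine ⟨hu, fun d hd hdy hdz => ?_⟩
    rw [U.comm d hd u hu, hαβ, add_right U.card H, H.smul_right, H.smul_right,
      (U.comm d hd y hy).1 hdy, (U.comm d hd z hz).1 hdz]
    ring

/-- the points of a line -/
theorem exists_line_pts {y z : G} (hy : y ∈ E) (hz : z ∈ E) (hne : y ≠ z) (hc : Commute y z) :
    ∃ p : F → G, Function.Injective p ∧ (∀ c, p c ≠ y) ∧ (∀ c, p c ∈ E) ∧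
      (∀ c, ∃ k : F, k ≠ 0 ∧ f (p c) = k • (f z + c • f y)) ∧
      Line E y z = insert y (Set.range p) := by
  have H := U.herm
  have key : ∀ c : F, ∃ u ∈ E, ∃ k : F, k ≠ 0 ∧ f u = k • (f z + c • f y) := by
    intro c
    have h1 := h_combo U hy hz hc c 1
    have h2 := combo_ne U hy hz hne (α := c) (β := 1) (Or.inr one_ne_zero)
    rw [one_smul, add_comm] at h1 h2
    exact exists_pt U h2 h1
  choose p hpE hp using key
  have hpy : ∀ c, p c ≠ y := by
    intro c h1
    obtain ⟨k, hk, hk2⟩ := hp c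
    rw [h1] at hk2
    have h2 : (1 - k * c) • f y + (-k) • f z = 0 := by
      have h3 : (1 - k * c) • f y + (-k) • f z = f y - k • (f z + c • f y) := by module
      rw [h3]
      exact sub_eq_zero.2 hk2
    exact combo_ne U hy hz hne (Or.inr (neg_ne_zero.2 hk)) h2
  have hinj : Function.Injective p := by
    intro c c' hcc
    obtain ⟨k, hk, hk2⟩ := hp c
    obtain ⟨k', hk', hk2'⟩ := hp c'
    rw [hcc, hk2'] at hk2
    have h2 : (k' * c' - k * c) • f y + (k' - k) • f z = 0 := by
      rw [sub_smul, sub_smul, mul_smul, mul_smul]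
      have h3 : k' • f z + k' • c' • f y = k • f z + k • c • f y := by
        rw [← smul_add, ← smul_add]; exact hk2
      have h4 : k' • c' • f y - k • c • f y + (k' • f z - k • f z) =
        (k' • f z + k' • c' • f y) - (k • f z + k • c • f y) := by abel
      rw [h4, h3, sub_self]
    have h3 : k' - k = 0 := by
      by_contra h4
      exact combo_ne U hy hz hne (Or.inr h4) h2
    have h4 : k' * c' - k * c = 0 := by
      by_contra h5
      exact combo_ne U hy hz hne (Or.inl h5) h2
    have h5 : k' = k := sub_eq_zero.1 h3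
    rw [h5, ← mul_sub] at h4
    rcases mul_eq_zero.1 h4 with h6 | h6
    · exact absurd h6 hk
    · exact (sub_eq_zero.1 h6).symm
  refine ⟨p, hinj, hpy, hpE, hp, ?_⟩
  ext u
  rw [mem_line_iff U hy hz hc, Set.mem_insert_iff, Set.mem_range]
  constructor
  · rintro ⟨hu, α, β, hαβ⟩
    by_cases hβ : β = 0
    · left
      apply U.inj u hu y hy α
      rw [hαβ, hβ, zero_smul, add_zero]
    · right
      refine ⟨β⁻¹ * α, ?_⟩
      obtain ⟨k, hk, hk2⟩ := hp (β⁻¹ * α)
      apply U.inj _ (hpE _) u hu (k * β⁻¹)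
      rw [hk2, hαβ]
      match_scalars <;> field_simp
  · rintro (rfl | ⟨c, rfl⟩)
    · exact ⟨hy, 1, 0, by rw [one_smul, zero_smul, add_zero]⟩
    · obtain ⟨k, hk, hk2⟩ := hp c
      exact ⟨hpE c, k * c, k, by rw [hk2, smul_add, mul_smul, add_comm]⟩

theorem card_line {y z : G} (hy : y ∈ E) (hz : z ∈ E) (hne : y ≠ z) (hc : Commute y z) :
    (Line E y z).ncard = 5 := by
  obtain ⟨p, hinj, hpy, -, -, hL⟩ := exists_line_pts U hy hz hne hc
  have hfin : (Set.range p).Finite := Set.finite_range p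
  rw [hL, Set.ncard_insert_of_notMem (by rintro ⟨c, hc⟩; exact hpy c hc) hfin]
  have : (Set.range p).ncard = 4 := by
    rw [← Set.image_univ, Set.ncard_image_of_injective _ hinj, Set.ncard_univ,
      Nat.card_eq_fintype_card, U.card]
  rw [this]

/-- one-or-all -/
theorem line_one {y z : G} (hy : y ∈ E) (hz : z ∈ E) (hne : y ≠ z) (hc : Commute y z) {d : G}
    (hd : d ∈ E) : ∃ u ∈ Line E y z, Commute d u := by
  have H := U.herm
  by_cases hdy : Commute d y
  · exact ⟨y, mem_Line_left hy, hdy⟩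
  · obtain ⟨p, hinj, hpy, hpE, hp, hL⟩ := exists_line_pts U hy hz hne hc
    have h1 : h (f d) (f y) ≠ 0 := fun h2 => hdy ((U.comm d hd y hy).2 h2)
    have h1' : h (f y) (f d) ≠ 0 := fun h2 => h1 (swap_zero H h2)
    obtain ⟨k, hk, hk2⟩ := hp (h (f z) (f d) / h (f y) (f d))
    refine ⟨p (h (f z) (f d) / h (f y) (f d)), by rw [hL]; exact Or.inr ⟨_, rfl⟩, ?_⟩
    rw [Commute.symm_iff, U.comm _ (hpE _) d hd, hk2, H.smul_left, H.add_left, H.smul_left,
      div_mul_cancel₀ _ h1', add_self U.card, mul_zero]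

/-- two points of a line determine it -/
theorem line_eq {y z : G} (hy : y ∈ E) (hz : z ∈ E) (hc : Commute y z) {u v : G}
    (hu : u ∈ Line E y z) (hv : v ∈ Line E y z) (huv : u ≠ v) :
    Line E u v = Line E y z := by
  have hcuv : Commute u v := Line_commute hy hz hc hu hv
  obtain ⟨huE, a, b, hab⟩ := (mem_line_iff U hy hz hc).1 hu
  obtain ⟨hvE, a', b', hab'⟩ := (mem_line_iff U hy hz hc).1 hv
  have hdet : a * b' - a' * b ≠ 0 := by
    intro hdet
    by_cases hb : b = 0
    · by_cases hb' : b' = 0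
      · rw [hb, zero_smul, add_zero] at hab
        rw [hb', zero_smul, add_zero] at hab'
        have ha' : a' ≠ 0 := by
          rintro rfl
          exact U.ne v hvE (by rw [hab', zero_smul])
        apply huv
        apply U.inj u huE v hvE (a * a'⁻¹)
        rw [hab, hab', smul_smul, mul_assoc, inv_mul_cancel₀ ha', mul_one]
      · rw [hb, mul_zero, sub_zero] at hdet
        rcases mul_eq_zero.1 hdet with h1 | h1
        · apply U.ne u huE
          rw [hab, h1, hb, zero_smul, zero_smul, add_zero]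
        · exact hb' h1
    · apply huv.symm
      apply U.inj v hvE u huE (b' * b⁻¹)
      rw [hab, hab', smul_add, smul_smul, smul_smul]
      have h1 : b' * b⁻¹ * a = a' := by
        field_simp
        linear_combination hdet
      have h2 : b' * b⁻¹ * b = b' := by
        rw [mul_assoc, inv_mul_cancel₀ hb, mul_one]
      rw [h1, h2]
  ext w
  rw [mem_line_iff U huE hvE hcuv, mem_line_iff U hy hz hc]
  constructor
  · rintro ⟨hw, α, β, hαβ⟩
    refine ⟨hw, α * a + β * a', α * b + β * b', ?_⟩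
    rw [hαβ, hab, hab', smul_add, smul_add, smul_smul, smul_smul, smul_smul, smul_smul, add_smul,
      add_smul]
    abel
  · rintro ⟨hw, α, β, hαβ⟩
    obtain ⟨i, hi⟩ : ∃ i, (a * b' - a' * b) * i = 1 := ⟨_, mul_inv_cancel₀ hdet⟩
    refine ⟨hw, (α * b' - β * a') * i, (a * β - b * α) * i, ?_⟩
    rw [hαβ, hab, hab']
    match_scalars
    · linear_combination (-α) * hi
    · linear_combination (-β) * hi

/-! ### The action by conjugation -/

theorem f_cj {D : Set G} (FD : FData D) (hED : E ⊆ D) (hcl : ∀ a ∈ E, ∀ b ∈ E, cj a b ∈ E)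
    (hn : 4 ≤ n) {y z : G} (hy : y ∈ E) (hz : z ∈ E) :
    ∃ k : F, k ≠ 0 ∧ f (cj y z) = k • (f z + h (f z) (f y) • f y) := by
  have H := U.herm
  have hfin := U.fin
  by_cases hc : Commute y z
  · refine ⟨1, one_ne_zero, ?_⟩
    rw [cj_of_commute hc, (U.comm z hz y hy).1 hc.symm, zero_smul, add_zero, one_smul]
  · have hwE := hcl y hy z hz
    have hyz : h (f y) (f z) ≠ 0 := fun h1 => hc ((U.comm y hy z hz).2 h1)
    have hzy : h (f z) (f y) ≠ 0 := fun h1 => hyz (swap_zero H h1)
    obtain ⟨α, β, hαβ⟩ : ∃ α β : F, f (cj y z) = α • f y + β • f z := by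
      by_contra hcon
      push Not at hcon
      obtain ⟨v, hvv, hyv, hzv, huv⟩ := exists_sep_hyp U.card H (by rw [U.dim]; exact hn)
        (U.iso y hy) (U.iso z hz) hyz hcon
      have hv0 : v ≠ 0 := by
        rintro rfl
        exact huv (zero_right H _)
      obtain ⟨d, hd, c, hc0, hfd⟩ := exists_pt U hv0 hvv
      have hdy : Commute d y := by
        rw [U.comm d hd y hy, hfd, H.smul_left, swap_zero H hyv, mul_zero]
      have hdz : Commute d z := by
        rw [U.comm d hd z hz, hfd, H.smul_left, swap_zero H hzv, mul_zero]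
      have hdw := (U.comm d hd _ hwE).1 (commute_cj_of hdy hdz)
      rw [hfd, H.smul_left] at hdw
      rcases mul_eq_zero.1 hdw with h2 | h2
      · exact hc0 h2
      · exact huv (swap_zero H h2)
    have hβ : β ≠ 0 := by
      rintro rfl
      rw [zero_smul, add_zero] at hαβ
      exact third_ne_left FD (hED hy) hc (U.inj _ hwE y hy α hαβ)
    have hα : α ≠ 0 := by
      rintro rfl
      rw [zero_smul, zero_add] at hαβ
      exact third_ne_right hc (U.inj _ hwE z hz β hαβ)
    have h0 := U.iso _ hwE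
    rw [hαβ, H.add_left, H.smul_left, H.smul_left, add_right U.card H, add_right U.card H,
      H.smul_right, H.smul_right, H.smul_right, H.smul_right, U.iso y hy, U.iso z hz] at h0
    have hsw := H.swap (f z) (f y)
    rw [hsw] at h0
    have h1 : α * β * h (f z) (f y) * (β * h (f z) (f y) + α) = 0 := by
      linear_combination h0
    have h2 : β * h (f z) (f y) + α = 0 := by
      rcases mul_eq_zero.1 h1 with h3 | h3
      · exact absurd h3 (mul_ne_zero (mul_ne_zero hα hβ) hzy)
      · exact h3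
    have h3 : α = β * h (f z) (f y) := by
      have := add_self U.card (β * h (f z) (f y))
      linear_combination h2 - this
    exact ⟨β, hβ, by rw [hαβ, h3, smul_add, mul_smul, add_comm]⟩

theorem f_cj_list {D : Set G} (FD : FData D) (hED : E ⊆ D) (hcl : ∀ a ∈ E, ∀ b ∈ E, cj a b ∈ E)
    (hn : 4 ≤ n) {y : G} {t : G} (ht : t ∈ E) {s : V} {k : F} (hk : k ≠ 0)
    (hts : f t = k • (f y + s)) {z : G} (hz : z ∈ E) (hzs : h s (f z) = 0) :
    ∃ k' : F, k' ≠ 0 ∧ f (cj z t) = k' • (f y + (s + h (f y) (f z) • f z)) := by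
  have H := U.herm
  obtain ⟨k', hk', h1⟩ := f_cj U FD hED hcl hn hz ht
  refine ⟨k' * k, mul_ne_zero hk' hk, ?_⟩
  rw [h1, hts, H.smul_left, H.add_left, hzs]
  module

/-- the product of the five points of a line acts trivially -/
theorem prod_line {D : Set G} (FD : FData D) (hED : E ⊆ D) (hcl : ∀ a ∈ E, ∀ b ∈ E, cj a b ∈ E)
    (hn : 4 ≤ n) (b : Fin 5 → G) (hb : ∀ i, b i ∈ E) (hinj : Function.Injective b)
    (hcomm : ∀ i j, Commute (b i) (b j)) (hline : ∀ i, b i ∈ Line E (b 0) (b 1)) {t : G}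
    (ht : t ∈ E) : Commute (b 0 * b 1 * b 2 * b 3 * b 4) t := by
  classical
  have H := U.herm
  have hbb : ∀ i j, h (f (b i)) (f (b j)) = 0 := fun i j => (U.comm _ (hb i) _ (hb j)).1 (hcomm i j)
  -- apply the five conjugations
  have s0 : ∃ k : F, k ≠ 0 ∧ f t = k • (f t + 0) := ⟨1, one_ne_zero, by rw [one_smul, add_zero]⟩
  obtain ⟨k0, hk0, e0⟩ := s0
  obtain ⟨k4, hk4, e4⟩ := f_cj_list U FD hED hcl hn ht hk0 e0 (hb 4) (zero_left H _)
  have t4 := hcl _ (hb 4) _ ht
  obtain ⟨k3, hk3, e3⟩ := f_cj_list U FD hED hcl hn t4 hk4 e4 (hb 3) (by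
    simp only [H.add_left, H.smul_left, zero_left H, hbb, mul_zero, add_zero])
  have t3 := hcl _ (hb 3) _ t4
  obtain ⟨k2, hk2, e2⟩ := f_cj_list U FD hED hcl hn t3 hk3 e3 (hb 2) (by
    simp only [H.add_left, H.smul_left, zero_left H, hbb, mul_zero, add_zero])
  have t2 := hcl _ (hb 2) _ t3
  obtain ⟨k1, hk1, e1⟩ := f_cj_list U FD hED hcl hn t2 hk2 e2 (hb 1) (by
    simp only [H.add_left, H.smul_left, zero_left H, hbb, mul_zero, add_zero])
  have t1 := hcl _ (hb 1) _ t2
  obtain ⟨k, hk, e⟩ := f_cj_list U FD hED hcl hn t1 hk1 e1 (hb 0) (by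
    simp only [H.add_left, H.smul_left, zero_left H, hbb, mul_zero, add_zero])
  have tE := hcl _ (hb 0) _ t1
  -- the sum of the five terms is zero
  let φ : G → V := fun u => h (f t) (f u) • f u
  obtain ⟨p, hpinj, hpy, hpE, hp, hL⟩ := exists_line_pts U (hb 0) (hb 1)
    (fun h1 => absurd (hinj h1) (by decide)) (hcomm 0 1)
  have hcard5 := card_line U (hb 0) (hb 1) (fun h1 => absurd (hinj h1) (by decide)) (hcomm 0 1)
  have hfin : (Line E (b 0) (b 1)).Finite := Set.finite_of_ncard_ne_zero (by rw [hcard5]; norm_num)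
  have himg : Finset.univ.image b = insert (b 0) (Finset.univ.image p) := by
    apply Finset.eq_of_subset_of_card_le
    · intro u hu
      rw [Finset.mem_image] at hu
      obtain ⟨i, -, rfl⟩ := hu
      have h1 := hline i
      rw [hL, Set.mem_insert_iff, Set.mem_range] at h1
      rw [Finset.mem_insert, Finset.mem_image]
      rcases h1 with h1 | ⟨c, hc⟩
      · exact Or.inl h1
      · exact Or.inr ⟨c, Finset.mem_univ c, hc⟩
    · rw [Finset.card_image_of_injective _ hinj, Finset.card_univ, Fintype.card_fin]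
      refine (Finset.card_insert_le _ _).trans ?_
      rw [Finset.card_image_of_injective _ hpinj, Finset.card_univ, U.card]
  have hsum1 : ∑ i, φ (b i) = φ (b 0) + ∑ c : F, φ (p c) := by
    rw [← Finset.sum_image (f := φ) (s := Finset.univ) (g := b) (fun _ _ _ _ h1 => hinj h1), himg,
      Finset.sum_insert, Finset.sum_image (fun _ _ _ _ h1 => hpinj h1)]
    rw [Finset.mem_image]
    rintro ⟨c, -, hc⟩
    exact hpy c hc
  have hφp : ∀ c : F, φ (p c) = h (f t) (f (b 1)) • f (b 1) +
      (c ^ 2) • (h (f t) (f (b 0)) • f (b 1)) + c • (h (f t) (f (b 1)) • f (b 0)) +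
      (c ^ 3) • (h (f t) (f (b 0)) • f (b 0)) := by
    intro c
    obtain ⟨kc, hkc, hkc2⟩ := hp c
    show h (f t) (f (p c)) • f (p c) = _
    rw [hkc2, H.smul_right, add_right U.card H, H.smul_right]
    have h3 := pow_three U.card hkc
    have : (kc ^ 2 * (h (f t) (f (b 1)) + c ^ 2 * h (f t) (f (b 0)))) •
        (kc • (f (b 1) + c • f (b 0))) =
        (kc ^ 3) • ((h (f t) (f (b 1)) + c ^ 2 * h (f t) (f (b 0))) •
        (f (b 1) + c • f (b 0))) := by module
    rw [this, h3]
    module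
  have hsum2 : ∑ c : F, φ (p c) = h (f t) (f (b 0)) • f (b 0) := by
    simp only [hφp, Finset.sum_add_distrib, ← Finset.sum_smul]
    have q0 : ∀ a : F, ∑ _c : F, a = 0 := by
      intro a
      rw [Finset.sum_const, Finset.card_univ, U.card, ← Nat.cast_smul_eq_nsmul F]
      have : ((4 : ℕ) : F) = 0 := by
        have := two_eq U.card
        calc ((4 : ℕ) : F) = 2 * 2 := by norm_num
          _ = 0 := by rw [this, mul_zero]
      rw [this, zero_smul]
    have q1 : ∑ c : F, c ^ 1 = 0 :=
      FiniteField.sum_pow_lt_card_sub_one F 1 (by rw [U.card]; norm_num)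
    have q2 : ∑ c : F, c ^ 2 = 0 :=
      FiniteField.sum_pow_lt_card_sub_one F 2 (by rw [U.card]; norm_num)
    have q3 : ∑ c : F, c ^ 3 = 1 := by
      have : ∀ c : F, c ^ 3 = if c = 0 then 0 else 1 := by
        intro c
        split_ifs with hc
        · rw [hc]; norm_num
        · exact pow_three U.card hc
      simp only [this]
      rw [Finset.sum_ite, Finset.sum_const_zero, zero_add, Finset.sum_const, nsmul_one]
      have h4 : (Finset.univ.filter (fun c : F => ¬ c = 0)).card = 3 := by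
        rw [Finset.filter_ne' Finset.univ (0 : F), Finset.card_erase_of_mem (Finset.mem_univ _),
          Finset.card_univ, U.card]
      rw [h4]
      have := two_eq U.card
      calc ((3 : ℕ) : F) = 2 + 1 := by norm_num
        _ = 1 := by rw [this, zero_add]
    have q1' : ∑ c : F, c = 0 := by
      simpa using q1
    rw [q0, q1', q2, q3, zero_smul, zero_smul, zero_smul, one_smul, zero_add, zero_add, zero_add]
  have hφ0 : φ (b 0) = h (f t) (f (b 0)) • f (b 0) := rfl
  have hzero : ∑ i, φ (b i) = 0 := by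
    rw [hsum1, hsum2, hφ0, ← add_smul, add_self U.card, zero_smul]
  rw [Fin.sum_univ_five] at hzero
  have e' : f (cj (b 0) (cj (b 1) (cj (b 2) (cj (b 3) (cj (b 4) t))))) = k • f t := by
    rw [e]
    congr 1
    have : (0 : V) + h (f t) (f (b 4)) • f (b 4) + h (f t) (f (b 3)) • f (b 3) +
        h (f t) (f (b 2)) • f (b 2) + h (f t) (f (b 1)) • f (b 1) + h (f t) (f (b 0)) • f (b 0) =
        h (f t) (f (b 0)) • f (b 0) + h (f t) (f (b 1)) • f (b 1) + h (f t) (f (b 2)) • f (b 2) +
        h (f t) (f (b 3)) • f (b 3) + h (f t) (f (b 4)) • f (b 4) := by abel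
    rw [this]
    rw [show h (f t) (f (b 0)) • f (b 0) + h (f t) (f (b 1)) • f (b 1) +
      h (f t) (f (b 2)) • f (b 2) + h (f t) (f (b 3)) • f (b 3) + h (f t) (f (b 4)) • f (b 4) = 0
      from hzero, add_zero]
  have hfix := U.inj _ tE t ht k e'
  rw [← cj_eq_self_iff, cj_mul, cj_mul, cj_mul, cj_mul]
  exact hfix

/-! ### Counting -/

theorem three_mul_ncard : 3 * E.ncard + 1 = Nat.card {v : V // h v v = 0} := by
  classical
  have hfin := U.fin
  have H := U.herm
  have hVfin : Finite V := Module.finite_of_finite F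
  have e1 : ↥E × {c : F // c ≠ 0} ≃ {v : V // v ≠ 0 ∧ h v v = 0} := by
    refine Equiv.ofBijective (fun q => ⟨(q.2 : F) • f q.1, ?_, ?_⟩) ⟨?_, ?_⟩
    · exact smul_ne_zero q.2.2 (U.ne _ q.1.2)
    · rw [H.smul_left, H.smul_right, U.iso _ q.1.2, mul_zero, mul_zero]
    · rintro ⟨⟨x, hx⟩, ⟨c, hc⟩⟩ ⟨⟨y, hy⟩, ⟨c', hc'⟩⟩ hxy
      have h1 : c • f x = c' • f y := congrArg Subtype.val hxy
      have h2 : f x = (c⁻¹ * c') • f y := by rw [mul_smul, ← h1, inv_smul_smul₀ hc]
      have h3 := U.inj x hx y hy _ h2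
      subst h3
      have h4 : (c - c') • f x = 0 := by rw [sub_smul, h1, sub_self]
      rcases smul_eq_zero.1 h4 with h5 | h5
      · have h6 := sub_eq_zero.1 h5
        subst h6
        rfl
      · exact absurd h5 (U.ne x hx)
    · rintro ⟨v, hv, hvv⟩
      obtain ⟨x, hx, c, hc⟩ := U.surj v hv hvv
      have hc0 : c ≠ 0 := by
        rintro rfl
        exact hv (by rw [hc, zero_smul])
      exact ⟨⟨⟨x, hx⟩, ⟨c, hc0⟩⟩, Subtype.ext hc.symm⟩
  have e2 : Nat.card {c : F // c ≠ 0} = 3 := by
    rw [Nat.card_eq_fintype_card, Fintype.card_subtype_compl, U.card]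
    simp
  have e3 : Nat.card (↥E × {c : F // c ≠ 0}) = 3 * E.ncard := by
    rw [Nat.card_prod, e2, mul_comm]
    rfl
  have e4 : Nat.card {v : V // v ≠ 0 ∧ h v v = 0} + 1 = Nat.card {v : V // h v v = 0} := by
    have e5 : Option {v : V // v ≠ 0 ∧ h v v = 0} ≃ {v : V // h v v = 0} := by
      refine Equiv.ofBijective (fun o => o.elim ⟨0, zero_left H 0⟩ (fun q => ⟨q.1, q.2.2⟩)) ⟨?_, ?_⟩
      · rintro (_ | ⟨v, hv, hvv⟩) (_ | ⟨w, hw, hww⟩) hvw
        · rfl
        · exact absurd (congrArg Subtype.val hvw).symm hw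
        · exact absurd (congrArg Subtype.val hvw) hv
        · have h1 : v = w := congrArg Subtype.val hvw
          subst h1
          rfl
      · rintro ⟨v, hv⟩
        by_cases h0 : v = 0
        · subst h0
          exact ⟨none, rfl⟩
        · exact ⟨some ⟨v, h0, hv⟩, rfl⟩
    rw [← Nat.card_congr e5, Finite.card_option]
  rw [← e4, ← Nat.card_congr e1, e3]

theorem three_mul_ncard_eq : 3 * E.ncard = (if Even n then (2 ^ n - 1) * (2 ^ (n - 1) + 1)
    else (2 ^ n + 1) * (2 ^ (n - 1) - 1)) := by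
  have hfin := U.fin
  have hF' : Fintype.card F = 2 ^ 2 := by rw [U.card]; norm_num
  obtain ⟨e, he⟩ := exists_isometry hF' U.herm U.dim
  have h1 := three_mul_ncard U
  have h2 := Cfsg.Agent.LieClassical.HermCount.card_isotropic hF' n
  have h3 : Nat.card {v : V // h v v = 0} =
      Nat.card {v : Fin n → F // hermForm n F 2 v v = 0} := by
    refine Nat.card_congr (e.toEquiv.subtypeEquiv ?_)
    intro v
    show h v v = 0 ↔ hermForm n F 2 (e v) (e v) = 0
    rw [he]
  rw [h3, h2] at h1
  omega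

/-- a point not commuting with a given one -/
theorem exists_not_commute {y : G} (hy : y ∈ E) : ∃ w ∈ E, ¬ Commute y w := by
  have H := U.herm
  have hfin := U.fin
  obtain ⟨v, -, hv⟩ := exists_sep U.card H (S := ⊥) (u := f y) (by
    rw [Submodule.mem_bot]; exact U.ne y hy)
  obtain ⟨c, hc⟩ := exists_adjust U.card H (U.iso y hy) hv
  have h1 : h (f y) (v + c • f y) = 1 := by
    rw [add_right U.card H, H.smul_right, U.iso y hy, hv, mul_zero, add_zero]
  have h2 : v + c • f y ≠ 0 := by
    intro h3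
    rw [h3, zero_right H] at h1
    exact zero_ne_one h1
  obtain ⟨w, hw, k, hk, hk2⟩ := exists_pt U h2 hc
  refine ⟨w, hw, fun h3 => ?_⟩
  have h4 := (U.comm y hy w hw).1 h3
  rw [hk2, H.smul_right, h1, mul_one] at h4
  exact hk (pow_eq_zero_iff two_ne_zero |>.1 h4)

end

/-! ### Common neighbours -/

theorem isU_com {n : ℕ} {E : Set G} (hU : IsU (n + 2) E) {x a : G} (hx : x ∈ E) (ha : a ∈ E)
    (hxa : ¬ Commute x a) : IsU n (Com E x a) := by
  classical
  obtain ⟨F, i1, i2, f, U⟩ := exists_um hU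
  have H := U.herm
  have hxa' : hermForm (n + 2) F 2 (f x) (f a) ≠ 0 := fun h1 => hxa ((U.comm x hx a ha).2 h1)
  have hP := hermSp_perp2 U.card H (U.iso x hx) (U.iso a ha) hxa'
  have hdim := finrank_perp2 U.card H (U.iso x hx) (U.iso a ha) hxa'
  rw [U.dim] at hdim
  let P := perp2 H (f x) (f a)
  let f' : G → P := fun g => if hg : f g ∈ P then ⟨f g, hg⟩ else 0
  have hf' : ∀ g ∈ Com E x a, (f' g : Fin (n + 2) → F) = f g := by
    intro g hg
    have h1 : f g ∈ P := by
      show f g ∈ perp2 H (f x) (f a)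
      rw [mem_perp2]
      exact ⟨(U.comm g hg.1 x hx).1 hg.2.1.symm, (U.comm g hg.1 a ha).1 hg.2.2.symm⟩
    show ((if hg : f g ∈ P then ⟨f g, hg⟩ else 0 : P) : Fin (n + 2) → F) = f g
    rw [dif_pos h1]
  refine isU_of_um (F := F) (V := P) (h := fun u v => hermForm (n + 2) F 2 u v) (f := f')
    ⟨U.card, hP, inferInstance, ?_, ?_, ?_, ?_, ?_, ?_⟩
  · have : Module.finrank F P + 2 = n + 2 := hdim
    omega
  · intro g hg h1
    apply U.ne g hg.1
    rw [← hf' g hg, h1]
    rfl
  · intro g hg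
    show hermForm (n + 2) F 2 (f' g : Fin (n + 2) → F) (f' g : Fin (n + 2) → F) = 0
    rw [hf' g hg]
    exact U.iso g hg.1
  · intro g hg k hk
    show _ ↔ hermForm (n + 2) F 2 (f' g : Fin (n + 2) → F) (f' k : Fin (n + 2) → F) = 0
    rw [hf' g hg, hf' k hk]
    exact U.comm g hg.1 k hk.1
  · intro g hg k hk c hc
    apply U.inj g hg.1 k hk.1 c
    rw [← hf' g hg, ← hf' k hk, hc]
    rfl
  · rintro ⟨v, hvP⟩ hv0 hvv
    have hv0' : v ≠ 0 := fun h1 => hv0 (Subtype.ext h1)
    obtain ⟨g, hg, c, hc⟩ := U.surj v hv0' hvv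
    have hc0 : c ≠ 0 := by
      rintro rfl
      exact hv0' (by rw [hc, zero_smul])
    have hv2 := (mem_perp2 H).1 hvP
    have hgC : g ∈ Com E x a := by
      refine ⟨hg, ?_, ?_⟩
      · rw [Commute.symm_iff, U.comm g hg x hx]
        have := hv2.1
        rw [hc, H.smul_left] at this
        exact (mul_eq_zero.1 this).resolve_left hc0
      · rw [Commute.symm_iff, U.comm g hg a ha]
        have := hv2.2
        rw [hc, H.smul_left] at this
        exact (mul_eq_zero.1 this).resolve_left hc0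
    refine ⟨g, hgC, c, ?_⟩
    apply Subtype.ext
    show v = c • (f' g : Fin (n + 2) → F)
    rw [hf' g hgC, hc]

end Cfsg.Agent.S0480U.UModel
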