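import Mathlib
import Cfsg.Agent.S1613
import Cfsg.Agent.ThreeTransPolar.Main
import Cfsg.Agent.Fischer3.SpCase
import Cfsg.Agent.Fischer468.NReg
import Cfsg.Agent.S0480U.UModel

set_option autoImplicit false

/-!
# The strong form of S1616: the commutation structure is symplectic or unitary
-/

namespace Cfsg.Agent.S0480U.Two

open Cfsg Cfsg.Agent.SporadicStructure.FischerSpace Cfsg.Agent.ThreeTransPolar.Basic
open Cfsg.Agent.ThreeTransPolar.Main Cfsg.Agent.Fischer480.Defs Cfsg.Agent.S0480U.UModel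
open Cfsg.Agent.Fischer3.SpCase

universe u

section Sp

variable {G : Type*} [Group G] [Finite G] {D : Set G}

open Classical in
theorem isSp_of_hyps (h : Hyps D) (hex : ∃ x ∈ D, ∃ y ∈ D, x ≠ y ∧ Commute x y) :
    ∃ n, 2 ≤ n ∧ IsSp n D := by
  have : Finite ↥D := inferInstance
  have hmf : Module.Finite (ZMod 2) (h.V) := inferInstance
  obtain ⟨m, e, he⟩ := h.exists_coord
  have hdim : Module.finrank (ZMod 2) h.V = 2 * m := by
    rw [e.finrank_eq, Module.finrank_fintype_fun_eq_card, Fintype.card_sum, Fintype.card_fin]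
    ring
  have hdim' : Module.finrank (ZMod 2) h.V = Module.finrank (ZMod 2) (Fin (2 * m) → ZMod 2) := by
    rw [hdim, Module.finrank_fintype_fun_eq_card, Fintype.card_fin]
  let L : h.V ≃ₗ[ZMod 2] (Fin (2 * m) → ZMod 2) := LinearEquiv.ofFinrankEq _ _ hdim'
  let B' : LinearMap.BilinForm (ZMod 2) (Fin (2 * m) → ZMod 2) :=
    h.B.compl₁₂ (L.symm : _ →ₗ[ZMod 2] h.V) (L.symm : _ →ₗ[ZMod 2] h.V)
  have hB' : ∀ v w, B' v w = h.B (L.symm v) (L.symm w) := fun v w => rfl
  let f : G → Fin (2 * m) → ZMod 2 := fun g => if hg : g ∈ D then L (h.vec ⟨g, hg⟩) else 0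
  have hf : ∀ g (hg : g ∈ D), f g = L (h.vec ⟨g, hg⟩) := fun g hg => dif_pos hg
  refine ⟨m, ?_, B', f, ?_, ?_, ?_, ?_, ?_, ?_⟩
  · -- dimension at least four
    obtain ⟨x, hx, y, hy, hxy, hc⟩ := hex
    by_contra hlt
    have hx0 := h.vec_ne_zero ⟨x, hx⟩
    have hm : m = 0 ∨ m = 1 := by omega
    rcases hm with rfl | rfl
    · have h1 : Module.finrank (ZMod 2) h.V = 0 := by rw [hdim]
      have h2 : Subsingleton h.V := Module.finrank_zero_iff.1 h1
      exact hx0 (Subsingleton.elim _ _)
    · have hli : LinearIndependent (ZMod 2) ![h.vec ⟨x, hx⟩, h.vec ⟨y, hy⟩] := by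
        rw [LinearIndependent.pair_iff]
        intro s t hst
        have hsc : ∀ s : ZMod 2, s = 0 ∨ s = 1 := by decide
        have hy0 := h.vec_ne_zero ⟨y, hy⟩
        rcases hsc s with rfl | rfl <;> rcases hsc t with rfl | rfl
        · exact ⟨rfl, rfl⟩
        · exfalso; rw [zero_smul, one_smul, zero_add] at hst; exact hy0 hst
        · exfalso; rw [zero_smul, one_smul, add_zero] at hst; exact hx0 hst
        · exfalso
          rw [one_smul, one_smul] at hst
          have h1 : h.vec ⟨x, hx⟩ = h.vec ⟨y, hy⟩ := by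
            have h2 := eq_neg_of_add_eq_zero_left hst
            have h3 : -h.vec ⟨y, hy⟩ = h.vec ⟨y, hy⟩ := by
              have h4 : (2 : ZMod 2) • h.vec ⟨y, hy⟩ = 0 := by
                rw [show (2 : ZMod 2) = 0 from rfl, zero_smul]
              rw [two_smul] at h4
              exact neg_eq_of_add_eq_zero_left h4
            rw [h2, h3]
          exact hxy (congrArg Subtype.val (h.vec_injective h1))
      let b := basisOfLinearIndependentOfCardEqFinrank hli (by rw [hdim, Fintype.card_fin])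
      apply hx0
      apply h.eq_zero_of_B
      intro w
      have hxx : h.B (h.vec ⟨x, hx⟩) (h.vec ⟨x, hx⟩) = 0 := h.B_isAlt _
      have hxy' : h.B (h.vec ⟨x, hx⟩) (h.vec ⟨y, hy⟩) = 0 := by
        rw [h.B_vec_vec]
        exact Hyps.c_eq_zero.2 hc
      have hzero : h.B (h.vec ⟨x, hx⟩) = 0 := by
        apply b.ext
        intro i
        rw [coe_basisOfLinearIndependentOfCardEqFinrank]
        fin_cases i
        · exact hxx
        · exact hxy'
      rw [hzero]
      rfl
  · intro v
    rw [hB']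
    exact h.B_isAlt _
  · have hnd : ∀ v, (∀ w, B' v w = 0) → v = 0 := by
      intro v hv
      apply L.symm.injective
      rw [map_zero]
      apply h.eq_zero_of_B
      intro w
      have := hv (L w)
      rwa [hB', L.symm_apply_apply] at this
    have halt : B'.IsAlt := by
      intro v
      rw [hB']
      exact h.B_isAlt _
    refine ⟨hnd, ?_⟩
    intro w hw
    apply hnd
    intro v
    rw [← halt.neg_eq v w, hw v, neg_zero]
  · intro x hx h0
    rw [hf x hx] at h0
    exact h.vec_ne_zero ⟨x, hx⟩ (L.map_eq_zero_iff.1 h0)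
  · intro x hx y hy
    rw [hf x hx, hf y hy, hB', L.symm_apply_apply, L.symm_apply_apply, h.B_vec_vec]
    exact Hyps.c_eq_zero.symm
  · intro x hx y hy hxy
    rw [hf x hx, hf y hy] at hxy
    exact congrArg Subtype.val (h.vec_injective (L.injective hxy))
  · intro v hv
    rcases h.eq_vec (L.symm v) with h1 | ⟨x, h1⟩
    · exfalso
      apply hv
      apply L.symm.injective
      rw [h1, map_zero]
    · refine ⟨x, x.2, ?_⟩
      rw [hf x x.2]
      have h2 : h.vec ⟨(x : G), x.2⟩ = L.symm v := h1.symm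
      rw [h2, L.apply_symm_apply]

end Sp

section U

open Cfsg.Agent.Fischer468.Lines Cfsg.Agent.SporadicA.FieldFour
open Cfsg.Agent.Fischer468.Labels Cfsg.Agent.Fischer468.Orient
open Cfsg.Agent.Fischer468.NGroup Cfsg.Agent.Fischer920.PsuEnd Cfsg.Agent.Fischer468.Mu
open Cfsg.Agent.Fischer920.Gram Cfsg.Agent.Fischer468 Cfsg.Agent.Fischer468.Final

variable {G : Type*} [Group G] [Finite G] {D : Set G}

theorem isU_of_upolar (hU : UPolar D) : ∃ n, 4 ≤ n ∧ IsU n D := by
  classical
  obtain ⟨w, hw, -⟩ := hU.ex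
  have he : ∃ e ∈ D, ¬ Commute w e := by
    by_contra hcon
    push Not at hcon
    exact hU.fd.ne_one w hw (hU.center w hcon)
  obtain ⟨e, he, hwe⟩ := he
  obtain ⟨p, F, hlin⟩ := Coherent.exists_coherent hU hw he hwe
  have Q := NReg.reg hU F
  obtain ⟨V, i1, i2, i3, h, x, S⟩ := exists_gramSp hU F hlin
  obtain ⟨κ, K⟩ := exists_kap hU F S Q
  have hR : ∀ d : G, ∃ v, d ∈ D → R S hU F κ d v := by
    intro d
    by_cases hd : d ∈ D
    · obtain ⟨v, hv⟩ := exists_R S hU F Q κ hd
      exact ⟨v, fun _ => hv⟩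
    · exact ⟨0, fun hd' => absurd hd' hd⟩
  choose Ψ hΨ using hR
  have H := S.herm
  have HT : HermSp F4 (F4 × V × F4) (totalForm h) := total_hermSp (F := F4) rfl H
  have hcomm : ∀ a ∈ D, ∀ b ∈ D, Commute a b ↔ totalForm h (Ψ a) (Ψ b) = 0 :=
    fun a ha b hb => R_comm S hU F Q K (hΨ a ha) (hΨ b hb)
  have hne : ∀ a ∈ D, Ψ a ≠ 0 := fun a ha => R_ne_zero S hU F (hΨ a ha)
  refine ⟨Module.finrank F4 (F4 × V × F4), ?_, ?_⟩
  · rw [total_finrank]
    have := two_le_finrank hU F S
    omega
  · refine isU_of_um (F := F4) (V := F4 × V × F4) (h := totalForm h) (f := Ψ)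
      ⟨rfl, HT, inferInstance, rfl, hne, ?_, hcomm, ?_, ?_⟩
    · intro a ha
      exact (hcomm a ha a ha).1 (Commute.refl a)
    · intro a ha b hb c hab
      apply hU.noTwins a ha b hb
      intro d hd
      rw [hcomm d hd a ha, hcomm d hd b hb, hab, HT.smul_right]
      have hc : c ≠ 0 := by
        rintro rfl
        apply hne a ha
        rw [hab, zero_smul]
      constructor
      · intro h1
        rcases mul_eq_zero.1 h1 with h2 | h2
        · exact absurd ((pow_eq_zero_iff two_ne_zero).1 h2) hc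
        · exact h2
      · intro h1
        rw [h1, mul_zero]
    · intro v hv hiso
      obtain ⟨d, hd, v', hv', c, hc⟩ := exists_point S hU F Q K hv hiso
      refine ⟨d, hd, c, ?_⟩
      rw [R_unique S hU F Q κ (hΨ d hd) hv']
      exact hc

end U

variable {G : Type u} [Group G] [Finite G] {D : Set G}

theorem type_of_polar (P : Polar D 3 ∨ Polar D 5) :
    (∃ n, 2 ≤ n ∧ IsSp n D) ∨ ∃ n, 4 ≤ n ∧ IsU n D := by
  rcases P with P | P
  · left
    exact isSp_of_hyps ⟨P.fd, P.center, P.noTwins, P.card, P.one, P.hyp⟩ P.ex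
  · right
    exact isU_of_upolar ⟨P.fd, P.center, P.noTwins, P.card, P.one, P.ex, P.hyp⟩

/-- thick lines of commuting elements: symplectic or unitary -/
theorem thick_inList (T : Cfsg.Agent.ThreeTransPolar.Lines.Thick D) : InList D := by
  rcases type_of_polar (Cfsg.Agent.ThreeTransPolar.Main.polar_cases T) with h | h
  · exact Or.inr (Or.inl h)
  · exact Or.inr (Or.inr (Or.inr (Or.inl h)))

/-- the field `two` of `Fischer480.Main.Pieces`, with the literal definition of `HH` -/
theorem two (hD : FGroup D) (x : G) (hx : x ∈ D)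
    (h2 : ¬ Cfsg.pCore 2 ↥(Subgroup.closure (Loc D x)) ≤
      Subgroup.center ↥(Subgroup.closure (Loc D x))) : InList D := by
  have h := type_of_polar (Cfsg.Agent.ThreeTransPolar.Main.polar_of_hyps hD.sol hD.perf hD.cls
    (fun x hx => Cfsg.Agent.S1613.result hD.sol hD.perf hD.cls x hx) hx h2)
  rcases h with h | h
  · exact Or.inr (Or.inl h)
  · exact Or.inr (Or.inr (Or.inr (Or.inl h)))

end Cfsg.Agent.S0480U.Two
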