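import Cfsg.Agent.S0480U.CaseD
import Cfsg.Agent.Fischer160.CaseF

set_option autoImplicit false

/-!
# S0480: the pieces `caseD`, `caseF6`, `caseF7`, `caseF8`
-/

namespace Cfsg.Agent.S0480U.CaseDF

open Cfsg Cfsg.Agent.Fischer480.Defs

universe u

variable {G : Type u} [Group G] [Finite G] {D : Set G}

/-- (D) -/
theorem caseD (hD : FGroup D) (n : ℕ) (hn : 5 ≤ n) (h : ∀ x ∈ D, IsU n (Loc D x)) :
    InList D := by
  obtain rfl : n = 6 := Cfsg.Agent.S0480U.CaseD.five_le hD hn h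
  obtain ⟨h1, h2⟩ := Cfsg.Agent.S0480U.CaseD.caseSix hD h
  exact Or.inr (Or.inr (Or.inr (Or.inr (Or.inr (Or.inl ⟨h1, h, h2⟩)))))

/-- (F), first part -/
theorem caseF6 (hD : FGroup D) (h : ∀ x ∈ D, IsT6 (Loc D x)) : IsT7 D := by
  have hm := Cfsg.Agent.Fischer160.CaseF.numbers_t6 hD (fun x hx => (h x hx).1)
    (fun x hx y hy => (h x hx).2.1 y hy)
  exact ⟨hm.2, h, hm.1⟩

/-- (F), second part -/
theorem caseF7 (hD : FGroup D) (h : ∀ x ∈ D, IsT7 (Loc D x)) : IsT8 D := by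
  have hm := Cfsg.Agent.Fischer160.CaseF.numbers_t7 hD (fun x hx => (h x hx).1)
    (fun x hx y hy => ((h x hx).2.1 y hy).1)
  exact ⟨hm.2, h, hm.1⟩

/-- (F), third part -/
theorem caseF8 (hD : FGroup D) (h : ∀ x ∈ D, IsT8 (Loc D x)) : InList D :=
  Cfsg.Agent.Fischer160.CaseF.caseF8 hD h

end Cfsg.Agent.S0480U.CaseDF
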