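import Mathlib
import Cfsg.Agent.S0480U.Herm

set_option autoImplicit false

/-!
# Sets of even type do not exist in the projective 3-space over `F_4`

`no_cubic`: there is no homogeneous function `Q` on a vector space of dimension at least three over
the field with four elements such that `Q (x + z) ≠ Q x + Q z` for all independent `x, z`.
-/

namespace Cfsg.Agent.S0480U.EvenSet

open Cfsg.Agent.S0480U.Herm

variable {F S : Type*} [Field F] [Fintype F] [AddCommGroup S] [Module F S]

/-- linear independence of two vectors -/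
def Ind2 (F : Type*) {S : Type*} [Field F] [AddCommGroup S] [Module F S] (x z : S) : Prop :=
  ∀ α β : F, α • x + β • z = 0 → α = 0 ∧ β = 0

/-- linear independence of three vectors -/
def Ind3 (F : Type*) {S : Type*} [Field F] [AddCommGroup S] [Module F S] (x y z : S) : Prop :=
  ∀ α β γ : F, α • x + β • y + γ • z = 0 → α = 0 ∧ β = 0 ∧ γ = 0

theorem Ind2.symm {x z : S} (h : Ind2 F x z) : Ind2 F z x := fun α β hαβ => by
  rw [add_comm] at hαβ
  exact (h β α hαβ).symm

theorem Ind2.ne_left {x z : S} (h : Ind2 F x z) : x ≠ 0 := by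
  rintro rfl
  exact one_ne_zero (h 1 0 (by simp)).1

theorem Ind2.combo {x z : S} (h : Ind2 F x z) {a b c d : F} (hdet : a * d - b * c ≠ 0) :
    Ind2 F (a • x + b • z) (c • x + d • z) := by
  intro α β hαβ
  have h1 : (α * a + β * c) • x + (α * b + β * d) • z = 0 := by
    rw [← hαβ]; module
  obtain ⟨h2, h3⟩ := h _ _ h1
  constructor
  · have h4 : α * (a * d - b * c) = 0 := by linear_combination d * h2 - c * h3
    exact (mul_eq_zero.1 h4).resolve_right hdet
  · have h4 : β * (a * d - b * c) = 0 := by linear_combination a * h3 - b * h2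
    exact (mul_eq_zero.1 h4).resolve_right hdet

section

variable {Q : S → F} (hF : Fintype.card F = 4)
  (hom : ∀ c : F, c ≠ 0 → ∀ x, x ≠ 0 → Q (c • x) = c * Q x)
  (hN : ∀ x z, Ind2 F x z → Q (x + z) ≠ Q x + Q z)
include hF hom hN

/-- the polarization of `Q` is antilinear in the second variable -/
theorem pol_smul {x z : S} (h : Ind2 F x z) {c : F} (hc : c ≠ 0) :
    Q (x + c • z) - Q x - Q (c • z) = c ^ 2 * (Q (x + z) - Q x - Q z) := by
  by_cases hc1 : c = 1
  · rw [hc1, one_smul]; ring
  have hz := h.symm.ne_left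
  rw [hom c hc z hz]
  set A := Q (x + z) - Q x - Q z with hA
  set B := Q (x + c • z) - Q x - c * Q z with hB
  have hc1' : c - 1 ≠ 0 := sub_ne_zero.2 hc1
  -- the two vectors `x + z` and `x + c z`
  have hp1 : Ind2 F (x + z) (x + c • z) := by
    have := h.combo (a := 1) (b := 1) (c := 1) (d := c) (by
      rw [one_mul, one_mul]; exact hc1')
    simpa only [one_smul] using this
  have hxz : x + z ≠ 0 := hp1.ne_left
  have hxcz : x + c • z ≠ 0 := hp1.symm.ne_left
  have hA0 : A ≠ 0 := by
    intro h1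
    exact hN x z h (by linear_combination hA.symm.trans h1)
  have hB0 : B ≠ 0 := by
    intro h1
    have h2 : Ind2 F x (c • z) := by
      have := h.combo (a := 1) (b := 0) (c := 0) (d := c) (by simpa using hc)
      simpa only [one_smul, zero_smul, add_zero, zero_add] using this
    refine hN x (c • z) h2 ?_
    rw [hom c hc z hz]
    linear_combination hB.symm.trans h1
  -- `A ≠ B`
  have h1 : A ≠ B := by
    intro hAB
    have h2 : Ind2 F (x + z) ((-1 : F) • (x + c • z)) := by
      intro α β hαβ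
      rw [smul_smul] at hαβ
      obtain ⟨h3, h4⟩ := hp1 _ _ hαβ
      exact ⟨h3, by linear_combination -h4⟩
    refine hN _ _ h2 ?_
    rw [hom (-1) (neg_ne_zero.2 one_ne_zero) _ hxcz]
    have h3 : x + z + (-1 : F) • (x + c • z) = (1 - c) • z := by module
    rw [h3, hom (1 - c) (by intro h4; apply hc1'; linear_combination -h4) z hz]
    have hAB' : Q (x + z) - Q x - Q z = Q (x + c • z) - Q x - c * Q z := hAB
    linear_combination -hAB'
  -- `c A ≠ B`
  have h2 : c * A ≠ B := by
    intro hAB
    have h2 : Ind2 F (c • (x + z)) ((-1 : F) • (x + c • z)) := by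
      intro α β hαβ
      rw [smul_smul, smul_smul] at hαβ
      obtain ⟨h3, h4⟩ := hp1 _ _ hαβ
      exact ⟨(mul_eq_zero.1 h3).resolve_right hc, by linear_combination -h4⟩
    refine hN _ _ h2 ?_
    rw [hom (-1) (neg_ne_zero.2 one_ne_zero) _ hxcz, hom c hc _ hxz]
    have h3 : c • (x + z) + (-1 : F) • (x + c • z) = (c - 1) • x := by module
    rw [h3, hom (c - 1) hc1' x h.ne_left]
    have hAB' : c * (Q (x + z) - Q x - Q z) = Q (x + c • z) - Q x - c * Q z := hAB
    linear_combination -hAB'
  -- conclusion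
  have h3 : (B - A) * (B - c * A) * (B - c ^ 2 * A) = 0 := by
    have hc3 := pow_three hF hc
    have hA3 := pow_three hF hA0
    have hB3 := pow_three hF hB0
    have hcc : 1 + c + c ^ 2 = 0 := by
      have h4 : (c - 1) * (1 + c + c ^ 2) = 0 := by linear_combination hc3
      exact (mul_eq_zero.1 h4).resolve_left hc1'
    have : (B - A) * (B - c * A) * (B - c ^ 2 * A) =
        B ^ 3 - A ^ 3 * c ^ 3 - A * B ^ 2 * (1 + c + c ^ 2) +
        A ^ 2 * B * c * (1 + c + c ^ 2) := by ring
    rw [this, hcc, hc3, hA3, hB3]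
    ring
  rcases mul_eq_zero.1 h3 with h4 | h4
  · rcases mul_eq_zero.1 h4 with h5 | h5
    · exact absurd (sub_eq_zero.1 h5).symm h1
    · exact absurd (sub_eq_zero.1 h5).symm h2
  · exact sub_eq_zero.1 h4

/-- the third difference -/
theorem third_smul {x y z : S} (h : Ind3 F x y z) {c : F} (hc : c ≠ 0) :
    Q (c • x + y + z) - Q (y + z) - Q (c • x + y) - Q (c • x + z) + Q (c • x) + Q y + Q z =
    c ^ 2 * (Q (x + y + z) - Q (y + z) - Q (x + y) - Q (x + z) + Q x + Q y + Q z) := by
  have hxy : Ind2 F y x := by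
    intro α β hαβ
    obtain ⟨h1, h2, -⟩ := h β α 0 (by rw [zero_smul, add_zero, add_comm]; exact hαβ)
    exact ⟨h2, h1⟩
  have hxz : Ind2 F z x := by
    intro α β hαβ
    obtain ⟨h1, -, h2⟩ := h β 0 α (by rw [zero_smul, add_zero, add_comm]; exact hαβ)
    exact ⟨h2, h1⟩
  have hxyz : Ind2 F (y + z) x := by
    intro α β hαβ
    obtain ⟨h1, h2, -⟩ := h β α α (by rw [← hαβ, smul_add]; abel)
    exact ⟨h2, h1⟩
  have e1 := pol_smul hF hom hN hxy hc
  have e2 := pol_smul hF hom hN hxz hc
  have e3 := pol_smul hF hom hN hxyz hc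
  have a1 : c • x + y + z = y + z + c • x := by abel
  have a2 : c • x + y = y + c • x := add_comm _ _
  have a3 : c • x + z = z + c • x := add_comm _ _
  have a4 : x + y + z = y + z + x := by abel
  have a5 : x + y = y + x := add_comm _ _
  have a6 : x + z = z + x := add_comm _ _
  rw [a1, a2, a3, a4, a5, a6]
  linear_combination e3 - e1 - e2

theorem no_cubic {x y z : S} (h : Ind3 F x y z) : False := by
  obtain ⟨w, hw2, hw0, hw1⟩ := exists_omega hF
  have hw3 := pow_three hF hw0
  -- the third difference vanishes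
  have key : ∀ x y z : S, Ind3 F x y z →
      Q (x + y + z) - Q (y + z) - Q (x + y) - Q (x + z) + Q x + Q y + Q z = 0 := by
    intro x y z h
    have i1 : Ind3 F y (w • x) z := by
      intro α β γ hαβ
      obtain ⟨h1, h2, h3⟩ := h (β * w) α γ (by rw [← hαβ]; module)
      exact ⟨h2, (mul_eq_zero.1 h1).resolve_right hw0, h3⟩
    have i2 : Ind3 F z (w • x) (w • y) := by
      intro α β γ hαβ
      obtain ⟨h1, h2, h3⟩ := h (β * w) (γ * w) α (by rw [← hαβ]; module)
      exact ⟨h3, (mul_eq_zero.1 h1).resolve_right hw0, (mul_eq_zero.1 h2).resolve_right hw0⟩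
    have e1 := third_smul hF hom hN h hw0
    have e2 := third_smul hF hom hN i1 hw0
    have e3 := third_smul hF hom hN i2 hw0
    have hx : x ≠ 0 := by
      rintro rfl
      exact one_ne_zero (h 1 0 0 (by simp)).1
    have hy : y ≠ 0 := by
      rintro rfl
      exact one_ne_zero (h 0 1 0 (by simp)).2.1
    have hz : z ≠ 0 := by
      rintro rfl
      exact one_ne_zero (h 0 0 1 (by simp)).2.2
    have hyz : y + z ≠ 0 := by
      intro h0
      exact one_ne_zero (h 0 1 1 (by simpa using h0)).2.1
    have hxy : x + y ≠ 0 := by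
      intro h0
      exact one_ne_zero (h 1 1 0 (by simpa using h0)).1
    have hxz : x + z ≠ 0 := by
      intro h0
      exact one_ne_zero (h 1 0 1 (by simpa using h0)).1
    have hxyz : x + y + z ≠ 0 := by
      intro h0
      exact one_ne_zero (h 1 1 1 (by simpa using h0)).1
    -- homogeneity of the last expression
    have f1 : w • z + w • x + w • y = w • (x + y + z) := by module
    have f2 : w • x + w • y = w • (x + y) := by module
    have f3 : w • z + w • x = w • (x + z) := by module
    have f4 : w • z + w • y = w • (y + z) := by module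
    rw [f1, f2, f3, f4, hom w hw0 _ hxyz, hom w hw0 _ hxy, hom w hw0 _ hxz, hom w hw0 _ hyz,
      hom w hw0 _ hx, hom w hw0 _ hy, hom w hw0 _ hz] at e3
    have g1 : z + w • x + w • y = w • y + w • x + z := by abel
    have g2 : w • x + w • y = w • y + w • x := add_comm _ _
    have g3 : z + w • x = w • x + z := add_comm _ _
    have g4 : z + w • y = w • y + z := add_comm _ _
    have g5 : y + w • x + z = w • x + y + z := by abel
    have g6 : y + w • x = w • x + y := add_comm _ _
    rw [g1, g3, g4] at e3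
    rw [g5, g6, ← g2, f2, hom w hw0 _ hxy, hom w hw0 _ hx, hom w hw0 _ hy] at e2
    rw [hom w hw0 _ hx] at e1
    set δ := Q (x + y + z) - Q (y + z) - Q (x + y) - Q (x + z) + Q x + Q y + Q z with hδ
    have hfin : w * δ = w ^ 2 * (w ^ 2 * (w ^ 2 * δ)) := by
      rw [← g2, f2] at e3
      linear_combination e3 + w ^ 2 * e2 + w ^ 4 * e1
    have h6 : w ^ 2 * (w ^ 2 * (w ^ 2 * δ)) = δ := by
      calc w ^ 2 * (w ^ 2 * (w ^ 2 * δ)) = (w ^ 3) ^ 2 * δ := by ring
        _ = δ := by rw [hw3]; ring
    rw [h6] at hfin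
    have h7 : (w - 1) * δ = 0 := by linear_combination hfin
    exact (mul_eq_zero.1 h7).resolve_left (sub_ne_zero.2 hw1)
  -- two polar values and a zero
  have hxy : Ind2 F x y := by
    intro α β hαβ
    obtain ⟨h1, h2, -⟩ := h α β 0 (by rw [zero_smul, add_zero]; exact hαβ)
    exact ⟨h1, h2⟩
  have hxz : Ind2 F x z := by
    intro α β hαβ
    obtain ⟨h1, -, h2⟩ := h α 0 β (by rw [zero_smul, add_zero]; exact hαβ)
    exact ⟨h1, h2⟩
  have hA0 : Q (x + y) - Q x - Q y ≠ 0 := fun h1 => hN x y hxy (by linear_combination h1)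
  have hB0 : Q (x + z) - Q x - Q z ≠ 0 := fun h1 => hN x z hxz (by linear_combination h1)
  set A := Q (x + y) - Q x - Q y with hA
  set B := Q (x + z) - Q x - Q z with hB
  set μ := (A / B) ^ 2 with hμ
  have hμ0 : μ ≠ 0 := pow_ne_zero 2 (div_ne_zero hA0 hB0)
  have i1 : Ind3 F x y (μ • z) := by
    intro α β γ hαβ
    rw [smul_smul] at hαβ
    obtain ⟨h1, h2, h3⟩ := h α β _ hαβ
    exact ⟨h1, h2, (mul_eq_zero.1 h3).resolve_right hμ0⟩
  have e1 := key _ _ _ i1
  have e2 := pol_smul hF hom hN hxz hμ0
  have h4 : μ ^ 2 * B = A := by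
    rw [hμ, ← pow_mul]
    show (A / B) ^ 4 * B = A
    rw [pow_four hF, div_mul_cancel₀ _ hB0]
  have e2' : Q (x + μ • z) - Q x - Q (μ • z) = A := by
    rw [e2]; exact h4
  have i2 : Ind2 F x (y + μ • z) := by
    intro α β hαβ
    obtain ⟨h1, h2, -⟩ := i1 α β β (by rw [← hαβ]; module)
    exact ⟨h1, h2⟩
  refine hN x (y + μ • z) i2 ?_
  have h5 : x + (y + μ • z) = x + y + μ • z := by abel
  rw [h5]
  have h6 : Q (x + y) - Q x - Q y = A := rfl
  have h7 := add_self hF A
  linear_combination e1 + h6 + e2' + h7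

end

end Cfsg.Agent.S0480U.EvenSet
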