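import Mathlib
import Cfsg.Agent.S0480U.UModel

set_option autoImplicit false

/-!
# Combinatorics of the isotropic points of a Hermitian space over `F_4`
-/

namespace Cfsg.Agent.S0480U.UComb

open Cfsg Cfsg.Agent.SporadicStructure.FischerSpace Cfsg.Agent.ThreeTransPolar.Basic
open Cfsg.Agent.ThreeTransPolar.Lines Cfsg.Agent.Fischer920.PsuEnd Cfsg.Agent.S0480U.Herm
open Cfsg.Agent.Fischer480.Defs Cfsg.Agent.S0480U.UModel

variable {G : Type*} [Group G] {n : ℕ} {E : Set G}

theorem three_mul_ncard_isU (hU : IsU n E) : 3 * E.ncard =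
    (if Even n then (2 ^ n - 1) * (2 ^ (n - 1) + 1) else (2 ^ n + 1) * (2 ^ (n - 1) - 1)) := by
  obtain ⟨F, i1, i2, f, U⟩ := exists_um hU
  exact three_mul_ncard_eq U

theorem ncard_zero (hU : IsU 0 E) : E.ncard = 0 := by
  have := three_mul_ncard_isU hU
  norm_num at this
  omega

theorem ncard_one (hU : IsU 1 E) : E.ncard = 0 := by
  have := three_mul_ncard_isU hU
  norm_num at this
  omega

theorem ncard_two (hU : IsU 2 E) : E.ncard = 3 := by
  have := three_mul_ncard_isU hU
  rw [if_pos (by decide)] at this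
  norm_num at this
  omega

theorem ncard_three (hU : IsU 3 E) : E.ncard = 9 := by
  have := three_mul_ncard_isU hU
  rw [if_neg (by decide)] at this
  norm_num at this
  omega

theorem ncard_four (hU : IsU 4 E) : E.ncard = 45 := by
  have := three_mul_ncard_isU hU
  rw [if_pos (by decide)] at this
  norm_num at this
  omega

theorem ncard_five (hU : IsU 5 E) : E.ncard = 165 := by
  have := three_mul_ncard_isU hU
  rw [if_neg (by decide)] at this
  norm_num at this
  omega

theorem ncard_six (hU : IsU 6 E) : E.ncard = 693 := by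
  have := three_mul_ncard_isU hU
  rw [if_pos (by decide)] at this
  norm_num at this
  omega

theorem ncard_seven (hU : IsU 7 E) : E.ncard = 2709 := by
  have := three_mul_ncard_isU hU
  rw [if_neg (by decide)] at this
  norm_num at this
  omega

/-! ### Lines, again -/

theorem card_line' (hU : IsU n E) {y z : G} (hy : y ∈ E) (hz : z ∈ E) (hne : y ≠ z)
    (hc : Commute y z) : (Line E y z).ncard = 5 := by
  obtain ⟨F, i1, i2, f, U⟩ := exists_um hU
  exact card_line U hy hz hne hc

theorem line_one' (hU : IsU n E) {y z : G} (hy : y ∈ E) (hz : z ∈ E) (hne : y ≠ z)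
    (hc : Commute y z) {d : G} (hd : d ∈ E) : ∃ u ∈ Line E y z, Commute d u := by
  obtain ⟨F, i1, i2, f, U⟩ := exists_um hU
  exact line_one U hy hz hne hc hd

theorem line_eq' (hU : IsU n E) {y z : G} (hy : y ∈ E) (hz : z ∈ E)
    (hc : Commute y z) {u v : G} (hu : u ∈ Line E y z) (hv : v ∈ Line E y z) (huv : u ≠ v) :
    Line E u v = Line E y z := by
  obtain ⟨F, i1, i2, f, U⟩ := exists_um hU
  exact line_eq U hy hz hc hu hv huv

/-- two points of a line determine its perp -/
theorem line_two (hU : IsU n E) {y z : G} (hy : y ∈ E) (hz : z ∈ E)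
    (hc : Commute y z) {u v : G} (hu : u ∈ Line E y z) (hv : v ∈ Line E y z) (huv : u ≠ v)
    {d : G} (hd : d ∈ E) (h1 : Commute d u) (h2 : Commute d v) {w : G} (hw : w ∈ Line E y z) :
    Commute d w := by
  have := line_eq' hU hy hz hc hu hv huv
  rw [← this] at hw
  exact hw.2 d hd h1 h2

theorem exists_not_commute' (hU : IsU n E) {y : G} (hy : y ∈ E) : ∃ w ∈ E, ¬ Commute y w := by
  obtain ⟨F, i1, i2, f, U⟩ := exists_um hU
  exact exists_not_commute U hy

/-- projection of a point commuting with `y` to the common neighbours of `y` and `w` -/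
theorem exists_proj (hU : IsU n E) {y w z : G} (hy : y ∈ E) (hw : w ∈ E) (hyw : ¬ Commute y w)
    (hz : z ∈ Loc E y) : ∃ c ∈ Com E y w, z ∈ Line E y c := by
  have hzE := hz.1
  have hyz : Commute y z := hz.2.2
  obtain ⟨u, hu, hwu⟩ := line_one' hU hy hzE (Ne.symm hz.2.1) hyz hw
  have huy : u ≠ y := by
    rintro rfl
    exact hyw hwu.symm
  have hcyu : Commute y u := Line_commute hy hzE hyz (mem_Line_left hy) hu
  refine ⟨u, ⟨hu.1, hcyu, hwu⟩, ?_⟩
  rw [line_eq' hU hy hzE hyz (mem_Line_left hy) hu huy.symm]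
  exact mem_Line_right hzE

theorem proj_unique (hU : IsU n E) {y w z : G} (hy : y ∈ E) (hw : w ∈ E) (hyw : ¬ Commute y w)
    (hz : z ≠ y) {c c' : G} (hc : c ∈ Com E y w) (hc' : c' ∈ Com E y w)
    (h1 : z ∈ Line E y c) (h2 : z ∈ Line E y c') : c = c' := by
  by_contra hne
  have e1 := line_eq' hU hy hc.1 hc.2.1 (mem_Line_left hy) h1 hz.symm
  have e2 := line_eq' hU hy hc'.1 hc'.2.1 (mem_Line_left hy) h2 hz.symm
  have hzE := h1.1
  have hyz : Commute y z := Line_commute hy hc.1 hc.2.1 (mem_Line_left hy) h1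
  have h3 : c ∈ Line E y z := by rw [e1]; exact mem_Line_right hc.1
  have h4 : c' ∈ Line E y z := by rw [e2]; exact mem_Line_right hc'.1
  exact hyw (line_two hU hy hzE hyz h3 h4 hne hw hc.2.2 hc'.2.2 (mem_Line_left hy)).symm

/-- the number of points commuting with `y` -/
theorem ncard_loc [Finite G] (hU : IsU n E) {y w : G} (hy : y ∈ E) (hw : w ∈ E)
    (hyw : ¬ Commute y w) : (Loc E y).ncard = 4 * (Com E y w).ncard := by
  classical
  have hex : ∀ z, ∃ c, z ∈ Loc E y → c ∈ Com E y w ∧ z ∈ Line E y c := by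
    intro z
    by_cases hz : z ∈ Loc E y
    · obtain ⟨c, hc, hzc⟩ := exists_proj hU hy hw hyw hz
      exact ⟨c, fun _ => ⟨hc, hzc⟩⟩
    · exact ⟨1, fun h1 => absurd h1 hz⟩
  choose p hp using hex
  have hf1 : (Loc E y).Finite := Set.toFinite _
  have hf2 : (Com E y w).Finite := Set.toFinite _
  rw [Set.ncard_eq_toFinset_card _ hf1, Set.ncard_eq_toFinset_card _ hf2]
  have h1 : ∀ z ∈ hf1.toFinset, p z ∈ hf2.toFinset := by
    intro z hz
    rw [hf1.mem_toFinset] at hz
    rw [hf2.mem_toFinset]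
    exact (hp z hz).1
  rw [Finset.card_eq_sum_card_fiberwise h1, Finset.sum_const_nat (m := 4), mul_comm]
  intro c hc
  rw [hf2.mem_toFinset] at hc
  have hcy : c ≠ y := by
    rintro rfl
    exact hyw hc.2.2.symm
  have h5 := card_line' hU hy hc.1 hcy.symm hc.2.1
  have hfl : (Line E y c).Finite := Set.toFinite _
  have h6 : hf1.toFinset.filter (fun z => p z = c) = hfl.toFinset.erase y := by
    ext z
    rw [Finset.mem_filter, hf1.mem_toFinset, Finset.mem_erase, hfl.mem_toFinset]
    constructor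
    · rintro ⟨hz, hpz⟩
      refine ⟨hz.2.1, ?_⟩
      rw [← hpz]
      exact (hp z hz).2
    · rintro ⟨hzy, hz⟩
      have hzL : z ∈ Loc E y := ⟨hz.1, hzy, Line_commute hy hc.1 hc.2.1 (mem_Line_left hy) hz⟩
      exact ⟨hzL, proj_unique hU hy hw hyw hzy (hp z hzL).1 hc (hp z hzL).2 hz⟩
  rw [h6, Finset.card_erase_of_mem (by rw [hfl.mem_toFinset]; exact mem_Line_left hy),
    ← Set.ncard_eq_toFinset_card _ hfl, h5]

theorem ncard_loc_four [Finite G] (hU : IsU 4 E) {y : G} (hy : y ∈ E) :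
    (Loc E y).ncard = 12 := by
  obtain ⟨w, hw, hyw⟩ := exists_not_commute' hU hy
  rw [ncard_loc hU hy hw hyw, ncard_two (isU_com (n := 2) hU hy hw hyw)]

theorem ncard_loc_five [Finite G] (hU : IsU 5 E) {y : G} (hy : y ∈ E) :
    (Loc E y).ncard = 36 := by
  obtain ⟨w, hw, hyw⟩ := exists_not_commute' hU hy
  rw [ncard_loc hU hy hw hyw, ncard_three (isU_com (n := 3) hU hy hw hyw)]

theorem ncard_loc_six [Finite G] (hU : IsU 6 E) {y : G} (hy : y ∈ E) :
    (Loc E y).ncard = 180 := by
  obtain ⟨w, hw, hyw⟩ := exists_not_commute' hU hy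
  rw [ncard_loc hU hy hw hyw, ncard_four (isU_com (n := 4) hU hy hw hyw)]

theorem ncard_loc_seven [Finite G] (hU : IsU 7 E) {y : G} (hy : y ∈ E) :
    (Loc E y).ncard = 660 := by
  obtain ⟨w, hw, hyw⟩ := exists_not_commute' hU hy
  rw [ncard_loc hU hy hw hyw, ncard_five (isU_com (n := 5) hU hy hw hyw)]

/-! ### Small dimensions -/

theorem no_point [Finite G] (hU : IsU n E) (hn : n ≤ 1) {y : G} (hy : y ∈ E) : False := by
  have h1 : E.ncard = 0 := by
    interval_cases n
    · exact ncard_zero hU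
    · exact ncard_one hU
  have h2 : 0 < E.ncard := Set.ncard_pos (Set.toFinite _) |>.2 ⟨y, hy⟩
  omega

/-- in dimension at most three, two points never commute -/
theorem no_comm [Finite G] (hU : IsU n E) (hn : n ≤ 3) {y z : G} (hy : y ∈ E) (hz : z ∈ E)
    (hc : Commute y z) : y = z := by
  by_contra hne
  have hn2 : 2 ≤ n := by
    by_contra hlt
    exact no_point hU (by omega) hy
  obtain ⟨m, rfl⟩ : ∃ m, n = m + 2 := ⟨n - 2, by omega⟩
  obtain ⟨w, hw, hyw⟩ := exists_not_commute' hU hy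
  obtain ⟨c, hc', -⟩ := exists_proj hU hy hw hyw ⟨hz, Ne.symm hne, hc⟩
  exact no_point (isU_com hU hy hw hyw) (by omega) hc'

/-- in dimension at most five, there are no totally isotropic planes -/
theorem no_plane [Finite G] (hU : IsU n E) (hn : n ≤ 5) {y z u : G} (hy : y ∈ E) (hz : z ∈ E)
    (hu : u ∈ E) (hyz : y ≠ z) (hc : Commute y z) (hyu : Commute y u) (hzu : Commute z u) :
    u ∈ Line E y z := by
  by_cases huy : u = y
  · rw [huy]; exact mem_Line_left hy
  have hn2 : 2 ≤ n := by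
    by_contra hlt
    exact no_point hU (by omega) hy
  obtain ⟨m, rfl⟩ : ∃ m, n = m + 2 := ⟨n - 2, by omega⟩
  obtain ⟨w, hw, hyw⟩ := exists_not_commute' hU hy
  obtain ⟨c, hcC, hzc⟩ := exists_proj hU hy hw hyw ⟨hz, hyz.symm, hc⟩
  obtain ⟨c', hcC', huc'⟩ := exists_proj hU hy hw hyw ⟨hu, huy, hyu⟩
  have hcy : c ≠ y := by
    rintro rfl
    exact hyw hcC.2.2.symm
  have hcy' : c' ≠ y := by
    rintro rfl
    exact hyw hcC'.2.2.symm
  have e1 : Line E y z = Line E y c :=
    line_eq' hU hy hcC.1 hcC.2.1 (mem_Line_left hy) hzc hyz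
  have e2 : Line E y u = Line E y c' :=
    line_eq' hU hy hcC'.1 hcC'.2.1 (mem_Line_left hy) huc' (Ne.symm huy)
  have h1 : c ∈ Line E y z := by rw [e1]; exact mem_Line_right hcC.1
  have h2 : c' ∈ Line E y u := by rw [e2]; exact mem_Line_right hcC'.1
  have h3 : Commute u c := h1.2 u hu hyu.symm hzu.symm
  have h4 : Commute c c' := h2.2 c hcC.1 hcC.2.1.symm h3.symm
  have h5 := no_comm (isU_com hU hy hw hyw) (by omega) hcC hcC' h4
  rw [e1, h5, ← e2]
  exact mem_Line_right hu

end Cfsg.Agent.S0480U.UComb
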