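import Mathlib
import Cfsg.Agent.S0480U.UComb
import Cfsg.Agent.S0480U.EvenSet

set_option autoImplicit false

/-!
# Sets `D` of 3-transpositions with `D_x` of type `U(n)`

The members of `D_x` commuting with a given `a` (not commuting with `x`) meet every totally
isotropic line of `D_x` in no or two points; hence `n ≥ 8` is impossible.
-/

namespace Cfsg.Agent.S0480U.Local

open Cfsg Cfsg.Agent.SporadicStructure.FischerSpace Cfsg.Agent.ThreeTransPolar.Basic
open Cfsg.Agent.ThreeTransPolar.Lines Cfsg.Agent.Fischer920.PsuEnd Cfsg.Agent.S0480U.Herm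
open Cfsg.Agent.Fischer480.Defs Cfsg.Agent.S0480U.UModel Cfsg.Agent.S0480U.UComb
open Cfsg.Agent.S0480U.EvenSet

variable {G : Type*} [Group G] {n : ℕ} {D : Set G}

theorem mem_line_swap {x y z u : G} (hy : y ∈ Loc D x) (hyz : Commute y z)
    (hz : z ∈ Loc D x) (hu : u ∈ Line (Loc D x) y z) (huy : u ≠ y) :
    u ∈ Line (Loc D y) x z := by
  have hyu : Commute y u := Line_commute hy hz hyz (mem_Line_left hy) hu
  refine ⟨⟨hu.1.1, huy, hyu⟩, fun d hd hdx hdz => ?_⟩
  by_cases hdx' : d = x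
  · rw [hdx']; exact hu.1.2.2
  · exact hu.2 d ⟨hd.1, hdx', hdx.symm⟩ hd.2.2.symm hdz

section

variable (hU : ∀ x ∈ D, IsU n (Loc D x))
include hU

/-- a second point on a line -/
theorem exists_second {x a y z : G} (hx : x ∈ D) (ha : a ∈ D) (hxa : ¬ Commute x a)
    (hy : y ∈ Com D x a) (hz : z ∈ Loc D x) (hzy : z ≠ y) (hyz : Commute y z) :
    ∃ u ∈ Line (Loc D x) y z, u ≠ y ∧ Commute a u := by
  have hyx : y ≠ x := by
    rintro rfl
    exact hxa hy.2.2.symm
  have hay : a ≠ y := by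
    rintro rfl
    exact hxa hy.2.1
  have hyL : y ∈ Loc D x := ⟨hy.1, hyx, hy.2.1⟩
  have hxL : x ∈ Loc D y := ⟨hx, hyx.symm, hy.2.1.symm⟩
  have hzL : z ∈ Loc D y := ⟨hz.1, hzy, hyz⟩
  have haL : a ∈ Loc D y := ⟨ha, hay, hy.2.2.symm⟩
  obtain ⟨u, hu, hau⟩ := line_one' (hU y hy.1) hxL hzL (Ne.symm hz.2.1) hz.2.2 haL
  have hux : u ≠ x := by
    rintro rfl
    exact hxa hau.symm
  exact ⟨u, mem_line_swap hxL hz.2.2 hzL hu hux, hu.1.2.1, hau⟩

/-- no three points on a line -/
theorem no_three {x a p q r : G} (hx : x ∈ D) (ha : a ∈ D) (hxa : ¬ Commute x a)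
    (hp : p ∈ Com D x a) (hq : q ∈ Com D x a) (hr : r ∈ Com D x a) (hpq : p ≠ q)
    (hcpq : Commute p q) (hrp : r ≠ p) (hrq : r ≠ q) (hrL : r ∈ Line (Loc D x) p q) : False := by
  have hpx : p ≠ x := by
    rintro rfl
    exact hxa hp.2.2.symm
  have hqx : q ≠ x := by
    rintro rfl
    exact hxa hq.2.2.symm
  have hap : a ≠ p := by
    rintro rfl
    exact hxa hp.2.1
  have hpL : p ∈ Loc D x := ⟨hp.1, hpx, hp.2.1⟩
  have hqL : q ∈ Loc D x := ⟨hq.1, hqx, hq.2.1⟩
  have h1 := mem_line_swap hpL hcpq hqL hrL hrp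
  have hxp : x ∈ Loc D p := ⟨hx, hpx.symm, hp.2.1.symm⟩
  have hqp : q ∈ Loc D p := ⟨hq.1, hpq.symm, hcpq⟩
  have haL : a ∈ Loc D p := ⟨ha, hap, hp.2.2.symm⟩
  exact hxa (line_two (hU p hp.1) hxp hqp hq.2.1 (mem_Line_right hqp) h1 hrq.symm haL
    hq.2.2 hr.2.2 (mem_Line_left hxp)).symm

theorem no_large [Finite G] (hn : 8 ≤ n) {x a y : G} (hx : x ∈ D) (ha : a ∈ D)
    (hxa : ¬ Commute x a) (hy : y ∈ Com D x a) : False := by
  classical
  have hyx : y ≠ x := by
    rintro rfl
    exact hxa hy.2.2.symm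
  have hyL : y ∈ Loc D x := ⟨hy.1, hyx, hy.2.1⟩
  have hUx := hU x hx
  obtain ⟨F, i1, i2, f, U⟩ := exists_um hUx
  have H := U.herm
  have hF := U.card
  -- four pairwise commuting independent points
  have hnon : ∀ (m : ℕ) (E : Set G), 2 ≤ m → IsU m E → ∃ e, e ∈ E := by
    intro m E hm hE
    have h1 := three_mul_ncard_isU hE
    have h2 : 0 < E.ncard := by
      have p1 : 2 ≤ 2 ^ (m - 1) := by
        calc 2 = 2 ^ 1 := by norm_num
          _ ≤ 2 ^ (m - 1) := Nat.pow_le_pow_right (by norm_num) (by omega)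
      have p2 : 2 ^ m = 2 * 2 ^ (m - 1) := by
        rw [← pow_succ']; congr 1; omega
      by_contra h3
      have h4 : E.ncard = 0 := by omega
      rw [h4, mul_zero] at h1
      split_ifs at h1
      · rcases mul_eq_zero.1 h1.symm with h5 | h5 <;> omega
      · rcases mul_eq_zero.1 h1.symm with h5 | h5 <;> omega
    exact (Set.ncard_pos (Set.toFinite _)).1 h2
  obtain ⟨k, rfl⟩ : ∃ k, n = k + 2 + 2 + 2 := ⟨n - 6, by omega⟩
  obtain ⟨w1, hw1, hyw1⟩ := exists_not_commute' hUx hyL
  have hU1 := isU_com hUx hyL hw1 hyw1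
  obtain ⟨e1, he1⟩ := hnon _ _ (by omega) hU1
  obtain ⟨w2, hw2, hew2⟩ := exists_not_commute' hU1 he1
  have hU2 := isU_com hU1 he1 hw2 hew2
  obtain ⟨e2, he2⟩ := hnon _ _ (by omega) hU2
  obtain ⟨w3, hw3, hew3⟩ := exists_not_commute' hU2 he2
  have hU3 := isU_com hU2 he2 hw3 hew3
  obtain ⟨e3, he3⟩ := hnon _ _ (by omega) hU3
  have e1L : e1 ∈ Loc D x := he1.1
  have e2L : e2 ∈ Loc D x := he2.1.1
  have e3L : e3 ∈ Loc D x := he3.1.1.1
  have w2L : w2 ∈ Loc D x := hw2.1
  have w3L : w3 ∈ Loc D x := hw3.1.1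
  have cye1 : Commute y e1 := he1.2.1
  have cye2 : Commute y e2 := he2.1.2.1
  have cye3 : Commute y e3 := he3.1.1.2.1
  have ce12 : Commute e1 e2 := he2.2.1
  have ce13 : Commute e1 e3 := he3.1.2.1
  have ce23 : Commute e2 e3 := he3.2.1
  have z := fun {p q : G} (hp : p ∈ Loc D x) (hq : q ∈ Loc D x) (hc : Commute p q) =>
    (U.comm p hp q hq).1 hc
  have zne : ∀ {p q : G}, p ∈ Loc D x → q ∈ Loc D x → ¬ Commute p q →
      hermForm _ F 2 (f p) (f q) ≠ 0 := fun hp hq hc h1 => hc ((U.comm _ hp _ hq).2 h1)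
  -- independence
  have indep : ∀ α β γ δ : F, α • f y + β • f e1 + γ • f e2 + δ • f e3 = 0 →
      α = 0 ∧ β = 0 ∧ γ = 0 ∧ δ = 0 := by
    intro α β γ δ h0
    have hcalc : ∀ v, α * hermForm _ F 2 (f y) v + β * hermForm _ F 2 (f e1) v +
        γ * hermForm _ F 2 (f e2) v + δ * hermForm _ F 2 (f e3) v = 0 := by
      intro v
      rw [← H.smul_left, ← H.smul_left, ← H.smul_left, ← H.smul_left, ← H.add_left,
        ← H.add_left, ← H.add_left, h0]
      exact zero_left H v
    have a1 := hcalc (f w1)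
    rw [z e1L hw1 he1.2.2.symm, z e2L hw1 he2.1.2.2.symm, z e3L hw1 he3.1.1.2.2.symm] at a1
    have a1' : α * hermForm _ F 2 (f y) (f w1) = 0 := by linear_combination a1
    have hα := (mul_eq_zero.1 a1').resolve_right (zne hyL hw1 hyw1)
    have a2 := hcalc (f w2)
    rw [hα, z e2L w2L he2.2.2.symm, z e3L w2L he3.1.2.2.symm] at a2
    have a2' : β * hermForm _ F 2 (f e1) (f w2) = 0 := by linear_combination a2
    have hβ := (mul_eq_zero.1 a2').resolve_right (zne e1L w2L hew2)
    have a3 := hcalc (f w3)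
    rw [hα, hβ, z e3L w3L he3.2.2.symm] at a3
    have a3' : γ * hermForm _ F 2 (f e2) (f w3) = 0 := by linear_combination a3
    have hγ := (mul_eq_zero.1 a3').resolve_right (zne e2L w3L hew3)
    rw [hα, hβ, hγ, zero_smul, zero_smul, zero_smul, zero_add, zero_add, zero_add] at h0
    exact ⟨hα, hβ, hγ, (smul_eq_zero.1 h0).resolve_right (U.ne e3 e3L)⟩
  -- the linear map
  let vec : (Fin 3 → F) → (Fin (k + 2 + 2 + 2) → F) :=
    fun s => s 0 • f e1 + s 1 • f e2 + s 2 • f e3
  have vec_add : ∀ s t, vec (s + t) = vec s + vec t := by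
    intro s t
    show (s 0 + t 0) • f e1 + (s 1 + t 1) • f e2 + (s 2 + t 2) • f e3 =
      (s 0 • f e1 + s 1 • f e2 + s 2 • f e3) + (t 0 • f e1 + t 1 • f e2 + t 2 • f e3)
    module
  have vec_smul : ∀ (c : F) s, vec (c • s) = c • vec s := by
    intro c s
    show (c * s 0) • f e1 + (c * s 1) • f e2 + (c * s 2) • f e3 =
      c • (s 0 • f e1 + s 1 • f e2 + s 2 • f e3)
    module
  have vec_ne : ∀ s (α : F), α • f y + vec s = 0 → α = 0 ∧ s = 0 := by
    intro s α h0
    obtain ⟨h1, h2, h3, h4⟩ := indep α (s 0) (s 1) (s 2) (by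
      rw [← h0]
      show _ = α • f y + (s 0 • f e1 + s 1 • f e2 + s 2 • f e3)
      abel)
    refine ⟨h1, ?_⟩
    ext i
    fin_cases i
    · exact h2
    · exact h3
    · exact h4
  -- everything in sight is totally isotropic
  have hyy := U.iso y hyL
  have h11 := U.iso e1 e1L
  have h22 := U.iso e2 e2L
  have h33 := U.iso e3 e3L
  have iso_all : ∀ (α : F) s (β : F) t,
      hermForm _ F 2 (α • f y + vec s) (β • f y + vec t) = 0 := by
    intro α s β t
    show hermForm _ F 2 (α • f y + (s 0 • f e1 + s 1 • f e2 + s 2 • f e3))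
      (β • f y + (t 0 • f e1 + t 1 • f e2 + t 2 • f e3)) = 0
    simp only [H.add_left, add_right hF H, H.smul_left, H.smul_right, hyy, h11, h22, h33,
      z hyL e1L cye1, z hyL e2L cye2, z hyL e3L cye3, z e1L hyL cye1.symm, z e2L hyL cye2.symm,
      z e3L hyL cye3.symm, z e1L e2L ce12, z e1L e3L ce13, z e2L e3L ce23, z e2L e1L ce12.symm,
      z e3L e1L ce13.symm, z e3L e2L ce23.symm, mul_zero, add_zero]
  -- the set of vectors of the points commuting with `a`
  let T : (Fin (k + 2 + 2 + 2) → F) → Prop := fun v => ∃ g ∈ Com D x a, ∃ c : F, c ≠ 0 ∧ f g = c • v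
  have comL : ∀ g ∈ Com D x a, g ∈ Loc D x := by
    intro g hg
    refine ⟨hg.1, ?_, hg.2.1⟩
    rintro rfl
    exact hxa hg.2.2.symm
  have T_smul : ∀ v (c : F), c ≠ 0 → T v → T (c • v) := by
    rintro v c hc ⟨g, hg, c', hc', hgv⟩
    refine ⟨g, hg, c' * c⁻¹, mul_ne_zero hc' (inv_ne_zero hc), ?_⟩
    rw [mul_smul, inv_smul_smul₀ hc, hgv]
  -- two independent vectors of `T` in the 4-space: the sum is not in `T`
  have T_add : ∀ (α : F) s (β : F) t, (∀ c d : F, c • (α • f y + vec s) + d • (β • f y + vec t) = 0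
      → c = 0 ∧ d = 0) → T (α • f y + vec s) → T (β • f y + vec t) →
      T ((α • f y + vec s) + (β • f y + vec t)) → False := by
    intro α s β t hind h1 h2 h3
    set u := α • f y + vec s with hu
    set v := β • f y + vec t with hv
    obtain ⟨g1, hg1, c1, hc1, e1'⟩ := h1
    obtain ⟨g2, hg2, c2, hc2, e2'⟩ := h2
    obtain ⟨g3, hg3, c3, hc3, e3'⟩ := h3
    have n12 : g1 ≠ g2 := by
      rintro rfl
      rw [e1'] at e2'
      have := hind c1 (-c2) (by rw [neg_smul, e2', add_neg_cancel])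
      exact hc1 this.1
    have n31 : g3 ≠ g1 := by
      rintro rfl
      rw [e3'] at e1'
      have := hind (c3 - c1) c3 (by
        have h0 : c3 • (u + v) - c1 • u = 0 := sub_eq_zero.2 e1'
        rw [← h0]; module)
      exact hc3 this.2
    have n32 : g3 ≠ g2 := by
      rintro rfl
      rw [e3'] at e2'
      have := hind c3 (c3 - c2) (by
        have h0 : c3 • (u + v) - c2 • v = 0 := sub_eq_zero.2 e2'
        rw [← h0]; module)
      exact hc3 this.1
    have c12 : Commute g1 g2 := by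
      rw [U.comm g1 (comL g1 hg1) g2 (comL g2 hg2), e1', e2', H.smul_left, H.smul_right,
        hu, hv, iso_all, mul_zero, mul_zero]
    refine no_three hU hx ha hxa hg1 hg2 hg3 n12 c12 n31 n32 ?_
    rw [mem_line_iff U (comL g1 hg1) (comL g2 hg2) c12]
    refine ⟨comL g3 hg3, c3 * c1⁻¹, c3 * c2⁻¹, ?_⟩
    rw [e1', e2', e3', mul_smul, mul_smul, inv_smul_smul₀ hc1, inv_smul_smul₀ hc2, smul_add]
  have Ty : T (f y) := ⟨y, hy, 1, one_ne_zero, by rw [one_smul]⟩
  -- existence
  have T_ex : ∀ s, s ≠ 0 → ∃ q : F, T (q • f y + vec s) := by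
    intro s hs
    have hv0 : vec s ≠ 0 := by
      intro h0
      exact hs (vec_ne s 0 (by rw [zero_smul, zero_add, h0])).2
    have hvv : hermForm _ F 2 (vec s) (vec s) = 0 := by
      have := iso_all 0 s 0 s
      rwa [zero_smul, zero_add] at this
    obtain ⟨g, hg, c, hc, hgs⟩ := exists_pt U hv0 hvv
    have hgy : g ≠ y := by
      rintro rfl
      have := vec_ne s (-c⁻¹) (by
        rw [hgs, neg_smul, inv_smul_smul₀ hc, neg_add_cancel])
      exact hs this.2
    have hcyg : Commute y g := by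
      rw [U.comm y hyL g hg, hgs, H.smul_right]
      have := iso_all 1 0 0 s
      have hv0' : vec 0 = 0 := by
        have := vec_smul 0 0
        rwa [zero_smul, zero_smul] at this
      rw [hv0', one_smul, add_zero, zero_smul, zero_add] at this
      rw [this, mul_zero]
    obtain ⟨u, hu, huy, hau⟩ := exists_second hU hx ha hxa hy hg hgy hcyg
    obtain ⟨huL, α, β, hαβ⟩ := (mem_line_iff U hyL hg hcyg).1 hu
    have hβ : β ≠ 0 := by
      rintro rfl
      apply huy
      apply U.inj u huL y hyL α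
      rw [hαβ, zero_smul, add_zero]
    refine ⟨(β * c)⁻¹ * α, u, ⟨huL.1, huL.2.2, hau⟩, β * c, mul_ne_zero hβ hc, ?_⟩
    rw [hαβ, hgs]
    generalize vec s = v
    rw [smul_add, smul_smul (β * c), ← mul_assoc, mul_inv_cancel₀ (mul_ne_zero hβ hc), one_mul,
      smul_smul β c]
  have hQ : ∀ s, ∃ q : F, s ≠ 0 → T (q • f y + vec s) := by
    intro s
    by_cases hs : s = 0
    · exact ⟨0, fun h => absurd hs h⟩
    · obtain ⟨q, hq⟩ := T_ex s hs
      exact ⟨q, fun _ => hq⟩
  choose Q hQ using hQ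
  -- uniqueness
  have T_un : ∀ s, s ≠ 0 → ∀ q q' : F, T (q • f y + vec s) → T (q' • f y + vec s) → q = q' := by
    intro s hs q q' h1 h2
    by_contra hne
    have hd : q - q' ≠ 0 := sub_ne_zero.2 hne
    refine T_add (q - q') 0 q' s ?_ ?_ h2 ?_
    · intro c d h0
      have hv0' : vec 0 = 0 := by
        have := vec_smul 0 0
        rwa [zero_smul, zero_smul] at this
      rw [hv0', add_zero] at h0
      have h3 := vec_ne (d • s) (c * (q - q') + d * q') (by
        rw [vec_smul, ← h0]; module)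
      have hd0 : d = 0 := (smul_eq_zero.1 h3.2).resolve_right hs
      rw [hd0, zero_mul, add_zero] at h3
      exact ⟨(mul_eq_zero.1 h3.1).resolve_right hd, hd0⟩
    · have hv0' : vec 0 = 0 := by
        have := vec_smul 0 0
        rwa [zero_smul, zero_smul] at this
      rw [hv0', add_zero]
      exact T_smul _ _ hd Ty
    · have hv0' : vec 0 = 0 := by
        have := vec_smul 0 0
        rwa [zero_smul, zero_smul] at this
      have : (q - q') • f y + vec 0 + (q' • f y + vec s) = q • f y + vec s := by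
        rw [hv0']; module
      rw [this]
      exact h1
  refine no_cubic (S := Fin 3 → F) (Q := Q) hF ?_ ?_ (x := Pi.single 0 1) (y := Pi.single 1 1)
    (z := Pi.single 2 1) ?_
  · intro c hc s hs
    have hcs : c • s ≠ 0 := smul_ne_zero hc hs
    apply T_un (c • s) hcs _ _ (hQ _ hcs)
    have : (c * Q s) • f y + vec (c • s) = c • (Q s • f y + vec s) := by
      rw [vec_smul]; module
    rw [this]
    exact T_smul _ _ hc (hQ s hs)
  · intro s t hst hcon
    have hs : s ≠ 0 := hst.ne_left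
    have ht : t ≠ 0 := hst.symm.ne_left
    have hst0 : s + t ≠ 0 := by
      intro h0
      exact one_ne_zero (hst 1 1 (by rw [one_smul, one_smul, h0])).1
    refine T_add (Q s) s (Q t) t ?_ (hQ s hs) (hQ t ht) ?_
    · intro c d h0
      have h3 := vec_ne (c • s + d • t) (c * Q s + d * Q t) (by
        rw [vec_add, vec_smul, vec_smul, ← h0]; module)
      exact hst c d h3.2
    · have : Q s • f y + vec s + (Q t • f y + vec t) = Q (s + t) • f y + vec (s + t) := by
        rw [vec_add, hcon]; module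
      rw [this]
      exact hQ _ hst0
  · intro α β γ h0
    refine ⟨?_, ?_, ?_⟩
    · have := congrFun h0 0
      simpa using this
    · have := congrFun h0 1
      simpa using this
    · have := congrFun h0 2
      simpa using this

end

end Cfsg.Agent.S0480U.Local
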