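import Mathlib
import Cfsg.Agent.ThreeTransPolar.Bound

set_option autoImplicit false

/-!
# 3-transposition groups whose local space is a generalized quadrangle with lines of 5 points

If `D_x` is, for every `x`, the point set of a generalized quadrangle with lines of five points
whose product centralizes `D_x`, then the maximal cliques `E` of `D` have six points, their product
is one, and every member of `D` outside `E` commutes with exactly two members of `E`.
-/

namespace Cfsg.Agent.S0480U.SixClique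

open Cfsg Cfsg.Agent.SporadicStructure.FischerSpace Cfsg.Agent.ThreeTransPolar.Basic
open Cfsg.Agent.ThreeTransPolar.Lines Cfsg.Agent.ThreeTransPolar.Bound

variable {G : Type*} [Group G] {D : Set G}

/-- the members of `D` commuting with `x` and different from `x` -/
def Dx (D : Set G) (x : G) : Set G := {y | y ∈ D ∧ y ≠ x ∧ Commute x y}

theorem mem_Dx {x y : G} : y ∈ Dx D x ↔ y ∈ D ∧ y ≠ x ∧ Commute x y := Iff.rfl

/-- the local hypothesis: `D_x` is a generalized quadrangle with lines of five points -/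
structure LocQ (D : Set G) : Prop where
  card : ∀ x ∈ D, ∀ y ∈ Dx D x, ∀ z ∈ Dx D x, y ≠ z → Commute y z →
    (Line (Dx D x) y z).ncard = 5
  one : ∀ x ∈ D, ∀ y ∈ Dx D x, ∀ z ∈ Dx D x, y ≠ z → Commute y z →
    ∀ d ∈ Dx D x, ∃ u ∈ Line (Dx D x) y z, Commute d u
  max : ∀ x ∈ D, ∀ y ∈ Dx D x, ∀ z ∈ Dx D x, ∀ u ∈ Dx D x, y ≠ z → Commute y z →
    Commute y u → Commute z u → u ∈ Line (Dx D x) y z
  prod : ∀ x ∈ D, ∀ b : Fin 5 → G, Function.Injective b → (∀ i, b i ∈ Dx D x) →
    (∀ i j, Commute (b i) (b j)) → ∀ t ∈ Dx D x, Commute (b 0 * b 1 * b 2 * b 3 * b 4) t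

/-- a set of six pairwise commuting members of `D` -/
structure Six (D : Set G) (E : Finset G) : Prop where
  card : E.card = 6
  mem : ∀ a ∈ E, a ∈ D
  comm : ∀ a ∈ E, ∀ b ∈ E, Commute a b

theorem Six.mem_Dx {E : Finset G} (hE : Six D E) {u a : G} (hu : u ∈ E) (ha : a ∈ E)
    (hne : a ≠ u) : a ∈ Dx D u := ⟨hE.mem a ha, hne, hE.comm u hu a ha⟩

section

variable [DecidableEq G] (Q : LocQ D) {E : Finset G} (hE : Six D E)
include Q hE

/-- removing a point from a 6-clique gives a line of the local space -/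
theorem line_eq {u y z : G} (hu : u ∈ E) (hy : y ∈ E) (hz : z ∈ E) (hyu : y ≠ u) (hzu : z ≠ u)
    (hyz : y ≠ z) : Line (Dx D u) y z = (E.erase u : Finset G) := by
  have hyD := hE.mem_Dx hu hy hyu
  have hzD := hE.mem_Dx hu hz hzu
  have h5 := Q.card u (hE.mem u hu) y hyD z hzD hyz (hE.comm y hy z hz)
  have hsub : ((E.erase u : Finset G) : Set G) ⊆ Line (Dx D u) y z := by
    intro a ha
    rw [Finset.mem_coe, Finset.mem_erase] at ha
    exact Q.max u (hE.mem u hu) y hyD z hzD a (hE.mem_Dx hu ha.2 ha.1) hyz (hE.comm y hy z hz)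
      (hE.comm y hy a ha.2) (hE.comm z hz a ha.2)
  have hfin : (Line (Dx D u) y z).Finite := Set.finite_of_ncard_ne_zero (by rw [h5]; norm_num)
  symm
  apply Set.eq_of_subset_of_ncard_le hsub _ hfin
  rw [h5, Set.ncard_coe_finset, Finset.card_erase_of_mem hu, hE.card]

/-- `E` is a maximal clique -/
theorem maximal {d : G} (hd : d ∈ D) (hall : ∀ a ∈ E, Commute d a) : d ∈ E := by
  by_contra hdE
  obtain ⟨u, hu⟩ : E.Nonempty := Finset.card_pos.1 (by rw [hE.card]; norm_num)
  obtain ⟨y, hy⟩ : (E.erase u).Nonempty :=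
    Finset.card_pos.1 (by rw [Finset.card_erase_of_mem hu, hE.card]; norm_num)
  obtain ⟨hyu, hy⟩ := Finset.mem_erase.1 hy
  obtain ⟨z, hz⟩ : ((E.erase u).erase y).Nonempty := Finset.card_pos.1 (by
    rw [Finset.card_erase_of_mem (Finset.mem_erase.2 ⟨hyu, hy⟩), Finset.card_erase_of_mem hu,
      hE.card]; norm_num)
  obtain ⟨hzy, hz⟩ := Finset.mem_erase.1 hz
  obtain ⟨hzu, hz⟩ := Finset.mem_erase.1 hz
  have hdu : d ≠ u := by rintro rfl; exact hdE hu
  have h1 := Q.max u (hE.mem u hu) y (hE.mem_Dx hu hy hyu) z (hE.mem_Dx hu hz hzu) d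
    ⟨hd, hdu, (hall u hu).symm⟩ hzy.symm (hE.comm y hy z hz) (hall y hy).symm (hall z hz).symm
  rw [line_eq Q hE hu hy hz hyu hzu hzy.symm] at h1
  exact hdE (Finset.mem_of_mem_erase (Finset.mem_coe.1 h1))

/-- a member of `D` outside `E` commuting with a point of `E` commutes with exactly two -/
theorem card_filter_of_commute {d u : G} (hd : d ∈ D) (hdE : d ∉ E) (hu : u ∈ E)
    (hdu : Commute d u) (p : G → Prop) [DecidablePred p] (hp : ∀ a, p a ↔ Commute d a) :
    (E.filter p).card = 2 := by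
  have hdu' : d ≠ u := by rintro rfl; exact hdE hu
  have hdD : d ∈ Dx D u := ⟨hd, hdu', hdu.symm⟩
  obtain ⟨y, hy⟩ : (E.erase u).Nonempty :=
    Finset.card_pos.1 (by rw [Finset.card_erase_of_mem hu, hE.card]; norm_num)
  obtain ⟨hyu, hy⟩ := Finset.mem_erase.1 hy
  obtain ⟨z, hz⟩ : ((E.erase u).erase y).Nonempty := Finset.card_pos.1 (by
    rw [Finset.card_erase_of_mem (Finset.mem_erase.2 ⟨hyu, hy⟩), Finset.card_erase_of_mem hu,
      hE.card]; norm_num)
  obtain ⟨hzy, hz⟩ := Finset.mem_erase.1 hz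
  obtain ⟨hzu, hz⟩ := Finset.mem_erase.1 hz
  obtain ⟨v, hv, hdv⟩ := Q.one u (hE.mem u hu) y (hE.mem_Dx hu hy hyu) z (hE.mem_Dx hu hz hzu)
    hzy.symm (hE.comm y hy z hz) d hdD
  rw [line_eq Q hE hu hy hz hyu hzu hzy.symm, Finset.mem_coe, Finset.mem_erase] at hv
  have heq : E.filter p = {u, v} := by
    ext a
    rw [Finset.mem_filter, hp, Finset.mem_insert, Finset.mem_singleton]
    constructor
    · rintro ⟨ha, hda⟩
      by_contra hcon
      rw [not_or] at hcon
      obtain ⟨hau, hav⟩ := hcon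
      -- `d` commutes with the two points `a, v` of the line `E - u`
      apply hdE
      apply maximal Q hE hd
      intro b hb
      by_cases hbu : b = u
      · rw [hbu]; exact hdu
      · have h1 : b ∈ Line (Dx D u) a v := by
          rw [line_eq Q hE hu ha hv.2 hau hv.1 hav, Finset.mem_coe, Finset.mem_erase]
          exact ⟨hbu, hb⟩
        exact h1.2 d hdD hda hdv
    · rintro (rfl | rfl)
      · exact ⟨hu, hdu⟩
      · exact ⟨hv.2, hdv⟩
  rw [heq, Finset.card_pair (Ne.symm hv.1)]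

end

/-- six pairwise commuting members -/
structure Hex (D : Set G) (a : G) (b : Fin 5 → G) : Prop where
  ha : a ∈ D
  hb : ∀ i, b i ∈ D
  inj : Function.Injective b
  ne : ∀ i, b i ≠ a
  cab : ∀ i, Commute a (b i)
  cbb : ∀ i j, Commute (b i) (b j)

theorem Hex.mem_Dx {a : G} {b : Fin 5 → G} (H : Hex D a b) (i : Fin 5) : b i ∈ Dx D a :=
  ⟨H.hb i, H.ne i, H.cab i⟩

theorem Hex.six [DecidableEq G] {a : G} {b : Fin 5 → G} (H : Hex D a b) :
    Six D (insert a (Finset.univ.image b)) := by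
  refine ⟨?_, ?_, ?_⟩
  · rw [Finset.card_insert_of_notMem, Finset.card_image_of_injective _ H.inj, Finset.card_univ,
      Fintype.card_fin]
    rw [Finset.mem_image]
    rintro ⟨i, -, hi⟩
    exact H.ne i hi
  · intro c hc
    rw [Finset.mem_insert, Finset.mem_image] at hc
    rcases hc with rfl | ⟨i, -, rfl⟩
    · exact H.ha
    · exact H.hb i
  · intro c hc d hd
    rw [Finset.mem_insert, Finset.mem_image] at hc hd
    rcases hc with rfl | ⟨i, -, rfl⟩ <;> rcases hd with rfl | ⟨j, -, rfl⟩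
    · exact Commute.refl _
    · exact H.cab j
    · exact (H.cab i).symm
    · exact H.cbb i j

theorem exists_hex [DecidableEq G] {E : Finset G} (hE : Six D E) {a : G} (ha : a ∈ E) :
    ∃ b : Fin 5 → G, Hex D a b ∧ E = insert a (Finset.univ.image b) := by
  have hcard : (E.erase a).card = 5 := by rw [Finset.card_erase_of_mem ha, hE.card]
  let φ := (E.erase a).equivFinOfCardEq hcard
  let b : Fin 5 → G := fun i => (φ.symm i : G)
  have hb : ∀ i, b i ≠ a ∧ b i ∈ E := fun i => Finset.mem_erase.1 (φ.symm i).2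
  have hinj : Function.Injective b := fun i j hij => φ.symm.injective (Subtype.ext hij)
  refine ⟨b, ⟨hE.mem a ha, fun i => hE.mem _ (hb i).2, hinj, fun i => (hb i).1,
    fun i => hE.comm a ha _ (hb i).2, fun i j => hE.comm _ (hb i).2 _ (hb j).2⟩, ?_⟩
  have himg : Finset.univ.image b = E.erase a := by
    apply Finset.eq_of_subset_of_card_le
    · intro c hc
      rw [Finset.mem_image] at hc
      obtain ⟨i, -, rfl⟩ := hc
      exact Finset.mem_erase.2 (hb i)
    · rw [hcard, Finset.card_image_of_injective _ hinj, Finset.card_univ, Fintype.card_fin]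
  rw [himg, Finset.insert_erase ha]

section

variable [Finite G] (R : Rk D) (Q : LocQ D)
include R Q

theorem commute_prod {a : G} {b : Fin 5 → G} (H : Hex D a b) {d : G} (hd : d ∈ D)
    (hda : Commute d a) : Commute (a * (b 0 * b 1 * b 2 * b 3 * b 4)) d := by
  by_cases hda' : d = a
  · subst hda'
    refine (Commute.refl d).mul_left ?_
    exact ((((H.cab 0).symm.mul_left (H.cab 1).symm).mul_left (H.cab 2).symm).mul_left
      (H.cab 3).symm).mul_left (H.cab 4).symm
  · exact hda.symm.mul_left (Q.prod a H.ha b H.inj H.mem_Dx H.cbb d ⟨hd, hda', hda.symm⟩)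

/-- the product of the six points of a 6-clique is one -/
theorem prod_eq_one {a : G} {b : Fin 5 → G} (H : Hex D a b) :
    a * (b 0 * b 1 * b 2 * b 3 * b 4) = 1 := by
  -- the clique seen from `b 0`
  let b' : Fin 5 → G := fun i => if i = 0 then a else b i
  have hb'0 : b' 0 = a := rfl
  have hb'1 : b' 1 = b 1 := rfl
  have hb'2 : b' 2 = b 2 := rfl
  have hb'3 : b' 3 = b 3 := rfl
  have hb'4 : b' 4 = b 4 := rfl
  have H' : Hex D (b 0) b' := by
    refine ⟨H.hb 0, ?_, ?_, ?_, ?_, ?_⟩
    · intro i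
      show (if i = 0 then a else b i) ∈ D
      split_ifs
      · exact H.ha
      · exact H.hb i
    · intro i j hij
      have hij' : (if i = 0 then a else b i) = (if j = 0 then a else b j) := hij
      split_ifs at hij' with h1 h2 h2
      · rw [h1, h2]
      · exact absurd hij'.symm (H.ne j)
      · exact absurd hij' (H.ne i)
      · exact H.inj hij'
    · intro i
      show (if i = 0 then a else b i) ≠ b 0
      split_ifs with h1
      · exact (H.ne 0).symm
      · exact fun h => h1 (H.inj h)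
    · intro i
      show Commute (b 0) (if i = 0 then a else b i)
      split_ifs
      · exact (H.cab 0).symm
      · exact H.cbb 0 i
    · intro i j
      show Commute (if i = 0 then a else b i) (if j = 0 then a else b j)
      split_ifs
      · exact Commute.refl _
      · exact H.cab j
      · exact (H.cab i).symm
      · exact H.cbb i j
  have e1 : a * (b 0 * b 1 * b 2 * b 3 * b 4) = b 0 * (b' 0 * b' 1 * b' 2 * b' 3 * b' 4) := by
    rw [hb'0, hb'1, hb'2, hb'3, hb'4]
    calc a * (b 0 * b 1 * b 2 * b 3 * b 4) = (a * b 0) * (b 1 * b 2 * b 3 * b 4) := by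
          simp only [mul_assoc]
      _ = (b 0 * a) * (b 1 * b 2 * b 3 * b 4) := by rw [(H.cab 0).eq]
      _ = b 0 * (a * b 1 * b 2 * b 3 * b 4) := by simp only [mul_assoc]
  -- a point commuting with `b 0` and not with `a`
  obtain ⟨w, hw, hwb, hwa⟩ : ∃ w ∈ D, Commute w (b 0) ∧ ¬ Commute w a := by
    by_contra hcon
    push Not at hcon
    exact H.ne 0 (R.perp_sub (b 0) (H.hb 0) a H.ha hcon)
  have hcw : Commute (a * (b 0 * b 1 * b 2 * b 3 * b 4)) w := by
    rw [e1]
    exact commute_prod R Q H' hw hwb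
  apply R.center
  intro d hd
  by_cases hda : Commute d a
  · exact commute_prod R Q H hd hda
  · obtain ⟨g, hg, hgw⟩ := M_trans R H.ha hw hd (fun h3 => hwa h3.symm) (fun h3 => hda h3.symm)
    have h3 : Commute (a * (b 0 * b 1 * b 2 * b 3 * b 4)) g :=
      (commute_of_mem_closure hg (fun s hs => (commute_prod R Q H hs.1 hs.2).symm)).symm
    rw [← cj_eq_self_iff, ← hgw, ← cj_mul, h3.eq, cj_mul, cj_of_commute hcw]

/-- every member of `D` commutes with a point of a 6-clique -/
theorem exists_commute_hex [DecidableEq G] {a : G} {b : Fin 5 → G} (H : Hex D a b) {t : G}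
    (ht : t ∈ D) : Commute t a ∨ ∃ i, Commute t (b i) := by
  have h := R.fd
  by_contra hcon
  rw [not_or] at hcon
  obtain ⟨hta, htb⟩ := hcon
  push Not at htb
  have hprod := prod_eq_one R Q H
  have key : ∀ u v : G, u ∈ D → v ∈ D → Commute u v → ¬ Commute t u → ¬ Commute t v →
      Commute (cj u t) (cj v t) := by
    intro u v hu hv huv htu htv
    rw [← third_comm h ht hu htu, ← third_comm h ht hv htv, commute_cj]
    exact huv
  have hneq : ∀ u v : G, u ∈ D → v ∈ D → ¬ Commute t u → ¬ Commute t v → cj u t = cj v t →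
      u = v := by
    intro u v hu hv htu htv huv
    rw [← third_comm h ht hu htu, ← third_comm h ht hv htv] at huv
    exact cj_inj.1 huv
  have H' : Hex D t (fun i => cj a (cj (b i) t)) := by
    refine ⟨ht, fun i => cj_mem h (cj_mem h ht), ?_, ?_, ?_, ?_⟩
    · intro i j hij
      exact H.inj (hneq _ _ (H.hb i) (H.hb j) (htb i) (htb j) (cj_inj.1 hij))
    · intro i
      exact s4_ne h H.ha (H.hb i) ht (H.ne i).symm hta (htb i)
    · intro i
      exact s4_commute h H.ha (H.hb i) ht (H.cab i) hta (htb i)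
    · intro i j
      exact commute_cj.2 (key _ _ (H.hb i) (H.hb j) (H.cbb i j) (htb i) (htb j))
  have ct' : Commute (cj (b 0) (cj (b 1) t)) t :=
    (s4_commute h (H.hb 0) (H.hb 1) ht (H.cbb 0 1) (htb 0) (htb 1)).symm
  have e0 : ∀ u v : G, u ∈ D → v ∈ D → Commute u v → cj u (cj v t) = cj v (cj u t) :=
    fun u v _ _ huv => cj_comm_of_commute huv t
  have s : ∀ i, b i * b i = 1 := fun i => h.sq _ (H.hb i)
  have sa := h.sq a H.ha
  -- product relations
  have rel : ∀ i j k : Fin 5, b 0 * b 1 * b i * b j * b k = b 0 * b 1 * b 2 * b 3 * b 4 →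
      a * b i = b 0 * b 1 * (b j * b k) ∧ True := by
    intro i j k hijk
    refine ⟨?_, trivial⟩
    have h1 : a * (b 0 * b 1 * b i * b j * b k) = 1 := by rw [hijk]; exact hprod
    have c1 := (H.cbb i j).eq
    have c2 := (H.cbb i k).eq
    have c3 := (H.cbb 0 i).eq
    have c4 := (H.cbb 1 i).eq
    have h2 : b 0 * b 1 * b i * b j * b k = b i * (b 0 * b 1 * (b j * b k)) := by
      calc b 0 * b 1 * b i * b j * b k = b 0 * (b 1 * b i) * (b j * b k) := by
            simp only [mul_assoc]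
        _ = (b 0 * b i) * b 1 * (b j * b k) := by rw [c4]; simp only [mul_assoc]
        _ = b i * (b 0 * b 1 * (b j * b k)) := by rw [c3]; simp only [mul_assoc]
    rw [h2, ← mul_assoc] at h1
    have h3 : (b 0 * b 1 * (b j * b k)) * (b 0 * b 1 * (b j * b k)) = 1 := by
      have hc : Commute (b 0 * b 1) (b j * b k) :=
        ((H.cbb 0 j).mul_right (H.cbb 0 k)).mul_left ((H.cbb 1 j).mul_right (H.cbb 1 k))
      calc (b 0 * b 1 * (b j * b k)) * (b 0 * b 1 * (b j * b k))
          = (b 0 * b 1) * ((b j * b k) * (b 0 * b 1)) * (b j * b k) := by simp only [mul_assoc]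
        _ = (b 0 * b 1) * ((b 0 * b 1) * (b j * b k)) * (b j * b k) := by rw [hc.eq]
        _ = (b 0 * b 1 * (b 0 * b 1)) * (b j * b k * (b j * b k)) := by simp only [mul_assoc]
        _ = (b 0 * (b 1 * b 0) * b 1) * (b j * (b k * b j) * b k) := by simp only [mul_assoc]
        _ = (b 0 * (b 0 * b 1) * b 1) * (b j * (b j * b k) * b k) := by
            rw [(H.cbb 1 0).eq, (H.cbb k j).eq]
        _ = (b 0 * b 0) * (b 1 * b 1) * ((b j * b j) * (b k * b k)) := by simp only [mul_assoc]
        _ = 1 := by rw [s, s, s, s]; simp only [one_mul]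
    rw [mul_eq_one_iff_eq_inv] at h1
    rw [h1]
    exact inv_eq_of_mul_eq_one_left h3
  have relcj : ∀ i j k : Fin 5, b 0 * b 1 * b i * b j * b k = b 0 * b 1 * b 2 * b 3 * b 4 →
      cj a (cj (b i) t) = cj (b 0) (cj (b 1) (cj (b j) (cj (b k) t))) := by
    intro i j k hijk
    rw [← cj_mul, (rel i j k hijk).1, cj_mul, cj_mul, cj_mul]
  have r2 : b 0 * b 1 * b 2 * b 3 * b 4 = b 0 * b 1 * b 2 * b 3 * b 4 := rfl
  have r3 : b 0 * b 1 * b 3 * b 2 * b 4 = b 0 * b 1 * b 2 * b 3 * b 4 := by
    calc b 0 * b 1 * b 3 * b 2 * b 4 = b 0 * b 1 * (b 3 * b 2) * b 4 := by simp only [mul_assoc]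
      _ = b 0 * b 1 * (b 2 * b 3) * b 4 := by rw [(H.cbb 3 2).eq]
      _ = b 0 * b 1 * b 2 * b 3 * b 4 := by simp only [mul_assoc]
  have r4 : b 0 * b 1 * b 4 * b 2 * b 3 = b 0 * b 1 * b 2 * b 3 * b 4 := by
    calc b 0 * b 1 * b 4 * b 2 * b 3 = b 0 * b 1 * ((b 4 * b 2) * b 3) := by
          simp only [mul_assoc]
      _ = b 0 * b 1 * (b 2 * (b 4 * b 3)) := by rw [(H.cbb 4 2).eq]; simp only [mul_assoc]
      _ = b 0 * b 1 * (b 2 * (b 3 * b 4)) := by rw [(H.cbb 4 3).eq]
      _ = b 0 * b 1 * b 2 * b 3 * b 4 := by simp only [mul_assoc]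
  -- the seventh commuting element
  have hcase : ∀ j k : Fin 5, j ≠ k →
      Commute (cj (b 0) (cj (b 1) t)) (cj (b 0) (cj (b 1) (cj (b j) (cj (b k) t)))) := by
    intro j k hjk
    rw [commute_cj, commute_cj]
    exact s4_commute h (H.hb j) (H.hb k) ht (H.cbb j k) (htb j) (htb k)
  have hcomm : ∀ i, Commute (cj (b 0) (cj (b 1) t)) (cj a (cj (b i) t)) := by
    intro i
    fin_cases i
    · show Commute (cj (b 0) (cj (b 1) t)) (cj a (cj (b 0) t))
      rw [e0 a (b 0) H.ha (H.hb 0) (H.cab 0), commute_cj]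
      exact key _ _ (H.hb 1) H.ha (H.cab 1).symm (htb 1) hta
    · show Commute (cj (b 0) (cj (b 1) t)) (cj a (cj (b 1) t))
      rw [e0 a (b 1) H.ha (H.hb 1) (H.cab 1), e0 (b 0) (b 1) (H.hb 0) (H.hb 1) (H.cbb 0 1),
        commute_cj]
      exact key _ _ (H.hb 0) H.ha (H.cab 0).symm (htb 0) hta
    · show Commute (cj (b 0) (cj (b 1) t)) (cj a (cj (b 2) t))
      rw [relcj 2 3 4 r2]
      exact hcase 3 4 (by decide)
    · show Commute (cj (b 0) (cj (b 1) t)) (cj a (cj (b 3) t))
      rw [relcj 3 2 4 r3]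
      exact hcase 2 4 (by decide)
    · show Commute (cj (b 0) (cj (b 1) t)) (cj a (cj (b 4) t))
      rw [relcj 4 2 3 r4]
      exact hcase 2 3 (by decide)
  have hmem := maximal Q H'.six (d := cj (b 0) (cj (b 1) t)) (cj_mem h (cj_mem h ht)) (by
    intro c hc
    rw [Finset.mem_insert, Finset.mem_image] at hc
    rcases hc with rfl | ⟨i, -, rfl⟩
    · exact ct'
    · exact hcomm i)
  rw [Finset.mem_insert, Finset.mem_image] at hmem
  rcases hmem with h1 | ⟨i, -, hi⟩
  · exact s4_ne h (H.hb 0) (H.hb 1) ht (fun h2 => absurd (H.inj h2) (by decide)) (htb 0) (htb 1) h1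
  · have hne2 : ∀ j k : Fin 5, j ≠ k →
        cj (b 0) (cj (b 1) (cj (b j) (cj (b k) t))) ≠ cj (b 0) (cj (b 1) t) := by
      intro j k hjk h2
      exact s4_ne h (H.hb j) (H.hb k) ht (fun h3 => hjk (H.inj h3)) (htb j) (htb k)
        (cj_inj.1 (cj_inj.1 h2))
    fin_cases i
    · have hi' : cj a (cj (b 0) t) = cj (b 0) (cj (b 1) t) := hi
      rw [e0 a (b 0) H.ha (H.hb 0) (H.cab 0)] at hi'
      exact H.ne 1 (hneq _ _ H.ha (H.hb 1) hta (htb 1) (cj_inj.1 hi')).symm
    · have hi' : cj a (cj (b 1) t) = cj (b 0) (cj (b 1) t) := hi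
      rw [e0 a (b 1) H.ha (H.hb 1) (H.cab 1), e0 (b 0) (b 1) (H.hb 0) (H.hb 1) (H.cbb 0 1)] at hi'
      exact H.ne 0 (hneq _ _ H.ha (H.hb 0) hta (htb 0) (cj_inj.1 hi')).symm
    · have hi' : cj a (cj (b 2) t) = cj (b 0) (cj (b 1) t) := hi
      rw [relcj 2 3 4 r2] at hi'
      exact hne2 3 4 (by decide) hi'
    · have hi' : cj a (cj (b 3) t) = cj (b 0) (cj (b 1) t) := hi
      rw [relcj 3 2 4 r3] at hi'
      exact hne2 2 4 (by decide) hi'
    · have hi' : cj a (cj (b 4) t) = cj (b 0) (cj (b 1) t) := hi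
      rw [relcj 4 2 3 r4] at hi'
      exact hne2 2 3 (by decide) hi'

/-- every member of `D` outside a 6-clique commutes with exactly two of its members -/
theorem card_filter [DecidableEq G] {E : Finset G} (hE : Six D E) {d : G} (hd : d ∈ D)
    (hdE : d ∉ E) (p : G → Prop) [DecidablePred p] (hp : ∀ a, p a ↔ Commute d a) :
    (E.filter p).card = 2 := by
  obtain ⟨a, ha⟩ : E.Nonempty := Finset.card_pos.1 (by rw [hE.card]; norm_num)
  obtain ⟨b, H, hEb⟩ := exists_hex hE ha
  rcases exists_commute_hex R Q H hd with h1 | ⟨i, hi⟩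
  · exact card_filter_of_commute Q hE hd hdE ha h1 p hp
  · refine card_filter_of_commute Q hE hd hdE ?_ hi p hp
    rw [hEb]
    exact Finset.mem_insert_of_mem (Finset.mem_image_of_mem b (Finset.mem_univ i))

/-- existence of 6-cliques -/
theorem exists_six [DecidableEq G] {x y z : G} (hx : x ∈ D) (hy : y ∈ Dx D x) (hz : z ∈ Dx D x)
    (hyz : y ≠ z) (hc : Commute y z) : ∃ E : Finset G, Six D E := by
  have h5 := Q.card x hx y hy z hz hyz hc
  have hfin : (Line (Dx D x) y z).Finite := Set.finite_of_ncard_ne_zero (by rw [h5]; norm_num)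
  refine ⟨insert x hfin.toFinset, ?_, ?_, ?_⟩
  · rw [Finset.card_insert_of_notMem, ← Set.ncard_eq_toFinset_card _ hfin, h5]
    rw [hfin.mem_toFinset]
    intro h1
    exact h1.1.2.1 rfl
  · intro a ha
    rw [Finset.mem_insert, hfin.mem_toFinset] at ha
    rcases ha with rfl | ha
    · exact hx
    · exact ha.1.1
  · intro a ha b hb
    rw [Finset.mem_insert, hfin.mem_toFinset] at ha hb
    rcases ha with rfl | ha <;> rcases hb with rfl | hb
    · exact Commute.refl _
    · exact hb.1.2.2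
    · exact ha.1.2.2.symm
    · exact Line_commute hy hz hc ha hb

/-- Counting: `|D| = 6 + 15 (λ - 4)`. -/
theorem ncard_eq [DecidableEq G] {E : Finset G} (hE : Six D E) {lam : ℕ}
    (hlam : ∀ x ∈ D, ∀ y ∈ D, x ≠ y → Commute x y →
      {d | d ∈ D ∧ d ≠ x ∧ d ≠ y ∧ Commute d x ∧ Commute d y}.ncard = lam) :
    D.ncard + 60 = 6 + 15 * lam := by
  classical
  have hfin : D.Finite := Set.toFinite D
  set S : Finset G := hfin.toFinset \ E with hS
  have hEsub : E ⊆ hfin.toFinset := by
    intro a ha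
    rw [hfin.mem_toFinset]
    exact hE.mem a ha
  have hScard : S.card + 6 = D.ncard := by
    rw [hS, Finset.card_sdiff_of_subset hEsub, hE.card, Set.ncard_eq_toFinset_card D hfin]
    have : 6 ≤ hfin.toFinset.card := by
      rw [← hE.card]; exact Finset.card_le_card hEsub
    omega
  -- double counting of pairs
  have hdc := Finset.sum_card_bipartiteAbove_eq_sum_card_bipartiteBelow (s := S) (t := E.offDiag)
    (fun (d : G) (q : G × G) => Commute d q.1 ∧ Commute d q.2)
  have h1 : ∀ d ∈ S, (Finset.bipartiteAbove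
      (fun (d : G) (q : G × G) => Commute d q.1 ∧ Commute d q.2) E.offDiag d).card = 2 := by
    intro d hd
    rw [hS, Finset.mem_sdiff, hfin.mem_toFinset] at hd
    have h2 := card_filter R Q hE hd.1 hd.2 (fun a => Commute d a) (fun a => Iff.rfl)
    have h3 : Finset.bipartiteAbove
        (fun (d : G) (q : G × G) => Commute d q.1 ∧ Commute d q.2) E.offDiag d =
        (E.filter (fun a => Commute d a)).offDiag := by
      ext q
      rw [Finset.mem_bipartiteAbove, Finset.mem_offDiag, Finset.mem_offDiag, Finset.mem_filter,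
        Finset.mem_filter]
      tauto
    rw [h3, Finset.offDiag_card, h2]
  have h4 : ∀ q ∈ E.offDiag, (Finset.bipartiteBelow
      (fun (d : G) (q : G × G) => Commute d q.1 ∧ Commute d q.2) S q).card = lam - 4 ∧
      4 ≤ lam := by
    intro q hq
    rw [Finset.mem_offDiag] at hq
    obtain ⟨hq1, hq2, hq3⟩ := hq
    have hcard := hlam q.1 (hE.mem _ hq1) q.2 (hE.mem _ hq2) hq3 (hE.comm _ hq1 _ hq2)
    set X : Set G := {d | d ∈ D ∧ d ≠ q.1 ∧ d ≠ q.2 ∧ Commute d q.1 ∧ Commute d q.2} with hX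
    have hXf : X.Finite := Set.toFinite X
    have hsplit : hXf.toFinset = (Finset.bipartiteBelow
        (fun (d : G) (q : G × G) => Commute d q.1 ∧ Commute d q.2) S q) ∪
        ((E.erase q.1).erase q.2) := by
      ext d
      rw [hXf.mem_toFinset, Finset.mem_union, Finset.mem_bipartiteBelow, Finset.mem_erase,
        Finset.mem_erase, hS, Finset.mem_sdiff, hfin.mem_toFinset]
      constructor
      · rintro ⟨hd, hd1, hd2, hc1, hc2⟩
        by_cases hdE : d ∈ E
        · right; exact ⟨hd2, hd1, hdE⟩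
        · left; exact ⟨⟨hd, hdE⟩, hc1, hc2⟩
      · rintro (⟨⟨hd, hdE⟩, hc1, hc2⟩ | ⟨hd2, hd1, hdE⟩)
        · refine ⟨hd, ?_, ?_, hc1, hc2⟩
          · rintro rfl; exact hdE hq1
          · rintro rfl; exact hdE hq2
        · exact ⟨hE.mem _ hdE, hd1, hd2, hE.comm _ hdE _ hq1, hE.comm _ hdE _ hq2⟩
    have hdisj : Disjoint (Finset.bipartiteBelow
        (fun (d : G) (q : G × G) => Commute d q.1 ∧ Commute d q.2) S q)
        ((E.erase q.1).erase q.2) := by
      rw [Finset.disjoint_left]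
      intro d hd1 hd2
      rw [Finset.mem_bipartiteBelow, hS, Finset.mem_sdiff] at hd1
      exact hd1.1.2 (Finset.mem_of_mem_erase (Finset.mem_of_mem_erase hd2))
    have hc4 : ((E.erase q.1).erase q.2).card = 4 := by
      rw [Finset.card_erase_of_mem (Finset.mem_erase.2 ⟨Ne.symm hq3, hq2⟩),
        Finset.card_erase_of_mem hq1, hE.card]
    have : X.ncard = (Finset.bipartiteBelow
        (fun (d : G) (q : G × G) => Commute d q.1 ∧ Commute d q.2) S q).card + 4 := by
      rw [Set.ncard_eq_toFinset_card X hXf, hsplit, Finset.card_union_of_disjoint hdisj, hc4]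
    constructor <;> omega
  rw [Finset.sum_congr rfl h1, Finset.sum_congr rfl (fun q hq => (h4 q hq).1), Finset.sum_const,
    Finset.sum_const, Finset.offDiag_card, hE.card] at hdc
  have h4' : 4 ≤ lam := by
    obtain ⟨a, ha⟩ : E.Nonempty := Finset.card_pos.1 (by rw [hE.card]; norm_num)
    obtain ⟨b, hb⟩ : (E.erase a).Nonempty :=
      Finset.card_pos.1 (by rw [Finset.card_erase_of_mem ha, hE.card]; norm_num)
    exact (h4 (a, b) (by
      rw [Finset.mem_offDiag]
      exact ⟨ha, Finset.mem_of_mem_erase hb, (Finset.ne_of_mem_erase hb).symm⟩)).2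
  simp only [smul_eq_mul] at hdc
  omega

end

end Cfsg.Agent.S0480U.SixClique
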