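import Mathlib
import Cfsg.Agent.S0480U.Local
import Cfsg.Agent.S0480U.SixClique
import Cfsg.Agent.Fischer160.Cases
import Cfsg.Agent.Fischer480.Defs

set_option autoImplicit false

/-!
# Case (D): all the local spaces `D_x` are unitary
-/

namespace Cfsg.Agent.S0480U.CaseD

open Cfsg Cfsg.Agent.SporadicStructure.FischerSpace Cfsg.Agent.ThreeTransPolar.Basic
open Cfsg.Agent.ThreeTransPolar.Lines Cfsg.Agent.S0480U.SixClique
open Cfsg.Agent.Fischer480.Defs Cfsg.Agent.S0480U.UModel Cfsg.Agent.S0480U.UComb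
open Cfsg.Agent.S0480U.Local

universe u

variable {G : Type u} [Group G] [Finite G] {D : Set G}

/-- the six clique structure for `n = 4, 5` -/
theorem locQ {n : ℕ} (FD : FData D) (h4 : 4 ≤ n) (h5 : n ≤ 5) (hU : ∀ x ∈ D, IsU n (Loc D x)) :
    LocQ D where
  card := fun x hx y hy z hz hne hc => card_line' (hU x hx) hy hz hne hc
  one := fun x hx y hy z hz hne hc d hd => line_one' (hU x hx) hy hz hne hc hd
  max := fun x hx y hy z hz u hu hne hc hyu hzu => no_plane (hU x hx) h5 hy hz hu hne hc hyu hzu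
  prod := by
    intro x hx b hinj hb hcomm t ht
    obtain ⟨F, i1, i2, f, U⟩ := exists_um (hU x hx)
    refine prod_line U FD (fun y hy => hy.1) ?_ h4 b hb hinj hcomm ?_ ht
    · intro a ha c hc
      refine ⟨cj_mem FD hc.1, ?_, ?_⟩
      · intro h1
        apply hc.2.1
        rw [← cj_of_commute (ha.2.2).symm] at h1
        exact cj_inj.1 h1
      · exact commute_cj_of ha.2.2 hc.2.2
    · intro i
      exact no_plane (hU x hx) h5 (hb 0) (hb 1) (hb i) (fun h1 => absurd (hinj h1) (by decide))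
        (hcomm 0 1) (hcomm 0 i) (hcomm 1 i)

theorem caseFive (hD : FGroup D) (hU : ∀ x ∈ D, IsU 5 (Loc D x)) : False := by
  classical
  have R := Cfsg.Agent.Fischer160.Cases.rk hD
  have Q := locQ R.fd (by norm_num) (by norm_num) hU
  have MV := Cfsg.Agent.Fischer160.Cases.u5 (D := D) ⟨hD, fun x hx => ncard_five (hU x hx),
    fun x hx y hy => ncard_loc_five (hU x hx) hy⟩
  obtain ⟨x, hx⟩ := R.fd.nonempty
  obtain ⟨y, hy⟩ : (Loc D x).Nonempty := by
    apply (Set.ncard_pos (Set.toFinite _)).1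
    rw [ncard_five (hU x hx)]
    norm_num
  obtain ⟨z, hz⟩ : (Loc (Loc D x) y).Nonempty := by
    apply (Set.ncard_pos (Set.toFinite _)).1
    rw [ncard_loc_five (hU x hx) hy]
    norm_num
  obtain ⟨E, hE⟩ := exists_six R Q hx hy hz.1 (Ne.symm hz.2.1) hz.2.2
  have h1 := SixClique.ncard_eq R Q hE (lam := 36) (by
    intro x hx y hy hne hc
    rw [← ncard_loc_five (hU x hx) (y := y) ⟨hy, Ne.symm hne, hc⟩]
    congr 1
    ext d
    constructor
    · rintro ⟨h1, h2, h3, h4, h5⟩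
      exact ⟨⟨h1, h2, h4.symm⟩, h3, h5.symm⟩
    · rintro ⟨⟨h1, h2, h4⟩, h3, h5⟩
      exact ⟨h1, h2, h3, h4.symm, h5.symm⟩)
  have h2 := MV.v
  omega

theorem caseSeven (hD : FGroup D) (hU : ∀ x ∈ D, IsU 7 (Loc D x)) : False :=
  Cfsg.Agent.Fischer160.Cases.u7 (D := D) ⟨hD, fun x hx => ncard_seven (hU x hx),
    fun x hx y hy => ncard_loc_seven (hU x hx) hy⟩

theorem caseLarge (hD : FGroup D) {n : ℕ} (hn : 8 ≤ n) (hU : ∀ x ∈ D, IsU n (Loc D x)) :
    False := by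
  have R := Cfsg.Agent.Fischer160.Cases.rk hD
  obtain ⟨x, hx, a, ha, y, hy, hxa, hyx, hya⟩ : ∃ x ∈ D, ∃ a ∈ D, ∃ y ∈ D, ¬ Commute x a ∧
      Commute x y ∧ Commute a y := by
    obtain ⟨x, hx, w, hw, d, hd, h1, h2, h3⟩ := R.exNonPerp
    exact ⟨x, hx, w, hw, d, hd, h1, h2.symm, h3.symm⟩
  exact no_large hU hn hx ha hxa ⟨hy, hyx, hya⟩

/-- `U(6)` gives the parameters of `Fi22` -/
theorem caseSix (hD : FGroup D) (hU : ∀ x ∈ D, IsU 6 (Loc D x)) :
    D.ncard = 3510 ∧ ∀ x ∈ D, ∀ a ∈ D, ¬ Commute x a → (Com D x a).ncard = 126 := by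
  have MV := Cfsg.Agent.Fischer160.Cases.u6 (D := D) ⟨hD, fun x hx => ncard_six (hU x hx),
    fun x hx y hy => ncard_loc_six (hU x hx) hy⟩
  exact ⟨MV.v, MV.mu⟩

theorem five_le (hD : FGroup D) {n : ℕ} (hn : 5 ≤ n) (hU : ∀ x ∈ D, IsU n (Loc D x)) : n = 6 := by
  by_contra hne
  rcases Nat.lt_or_ge n 8 with h8 | h8
  · interval_cases n
    · exact caseFive hD hU
    · exact hne rfl
    · exact caseSeven hD hU
  · exact caseLarge hD h8 hU

end Cfsg.Agent.S0480U.CaseD
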