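import Mathlib
import Cfsg.Agent.S0480U.UModel
import Cfsg.Agent.Fischer160.Cases

set_option autoImplicit false

/-!
# An F-group with the commutation of the isotropic points of `U(n)` is `PSU(n, 2)`
-/

namespace Cfsg.Agent.S0480U.PsuOfU

open Cfsg Cfsg.Agent.SporadicStructure.FischerSpace Cfsg.Agent.ThreeTransPolar.Basic
open Cfsg.Agent.ThreeTransPolar.Lines Cfsg.Agent.Fischer920.PsuEnd Cfsg.Agent.S0480U.Herm
open Cfsg.Agent.Fischer480.Defs Cfsg.Agent.S0480U.UModel

universe u

theorem hyp_of_um {G : Type*} [Group G] {F V : Type*} [Field F] [Fintype F] [AddCommGroup V]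
    [Module F V] {h : V → V → F} {n : ℕ} {E : Set G} {f : G → V} (U : UM h n E f) {D : Set G}
    (FD : FData D) (hED : E ⊆ D) (hcl : ∀ a ∈ E, ∀ b ∈ E, cj a b ∈ E) (hn : 4 ≤ n) {a b c : G}
    (ha : a ∈ E) (hb : b ∈ E) (hab : ¬ Commute a b) (hc : c ∈ E)
    (hall : ∀ z ∈ E, Commute z a → Commute z b → Commute z c) : c = a ∨ c = b ∨ c = a * b * a := by
  have H := U.herm
  have hfin := U.fin
  have hyz : h (f a) (f b) ≠ 0 := fun h1 => hab ((U.comm a ha b hb).2 h1)
  have hzy : h (f b) (f a) ≠ 0 := fun h1 => hyz (swap_zero H h1)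
  obtain ⟨α, β, hαβ⟩ : ∃ α β : F, f c = α • f a + β • f b := by
    by_contra hcon
    push Not at hcon
    obtain ⟨v, hvv, hyv, hzv, huv⟩ := exists_sep_hyp U.card H (by rw [U.dim]; exact hn)
      (U.iso a ha) (U.iso b hb) hyz hcon
    have hv0 : v ≠ 0 := by
      rintro rfl
      exact huv (zero_right H _)
    obtain ⟨d, hd, k, hk0, hfd⟩ := exists_pt U hv0 hvv
    have hdy : Commute d a := by
      rw [U.comm d hd a ha, hfd, H.smul_left, swap_zero H hyv, mul_zero]
    have hdz : Commute d b := by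
      rw [U.comm d hd b hb, hfd, H.smul_left, swap_zero H hzv, mul_zero]
    have hdw := (U.comm d hd _ hc).1 (hall d hd hdy hdz)
    rw [hfd, H.smul_left] at hdw
    rcases mul_eq_zero.1 hdw with h2 | h2
    · exact hk0 h2
    · exact huv (swap_zero H h2)
  by_cases hβ : β = 0
  · left
    apply U.inj c hc a ha α
    rw [hαβ, hβ, zero_smul, add_zero]
  by_cases hα : α = 0
  · right; left
    apply U.inj c hc b hb β
    rw [hαβ, hα, zero_smul, zero_add]
  right; right
  have h0 := U.iso _ hc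
  rw [hαβ, H.add_left, H.smul_left, H.smul_left, add_right U.card H, add_right U.card H,
    H.smul_right, H.smul_right, H.smul_right, H.smul_right, U.iso a ha, U.iso b hb,
    H.swap (f b) (f a)] at h0
  have h1 : α * β * h (f b) (f a) * (β * h (f b) (f a) + α) = 0 := by
    linear_combination h0
  have h2 : β * h (f b) (f a) + α = 0 := by
    rcases mul_eq_zero.1 h1 with h3 | h3
    · exact absurd h3 (mul_ne_zero (mul_ne_zero hα hβ) hzy)
    · exact h3
  have h3 : α = β * h (f b) (f a) := by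
    have := add_self U.card (β * h (f b) (f a))
    linear_combination h2 - this
  obtain ⟨k, hk, hk2⟩ := f_cj U FD hED hcl hn ha hb
  rw [← cj_eq_mul FD (hED ha)]
  apply U.inj c hc _ (hcl a ha b hb) (β * k⁻¹)
  rw [hαβ, hk2, h3, mul_smul β k⁻¹, inv_smul_smul₀ hk, smul_add, mul_smul, add_comm]

variable {G : Type u} [Group G] [Finite G] {D : Set G}

theorem center_eq_bot (R : Rk D) : Subgroup.center G = ⊥ := by
  rw [eq_bot_iff]
  intro g hg
  rw [Subgroup.mem_bot]
  exact R.center g (fun d _ => ((Subgroup.mem_center_iff.1 hg) d).symm)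

/-- (4d), with the description of `D` -/
theorem exists_equiv (R : Rk D) {n : ℕ} (hn : 4 ≤ n) (hU : IsU n D) :
    ∃ (F : Type) (_ : Field F) (_ : Fintype F), Fintype.card F = 4 ∧
      ∃ e : G ≃* PSU n F 2, ∀ g : G, g ∈ D ↔
        ∃ t : SU n F 2,
          (((t : Matrix.SpecialLinearGroup (Fin n) F) : Matrix (Fin n) (Fin n) F) - 1).rank = 1 ∧
          e g = QuotientGroup.mk t := by
  obtain ⟨F, i1, i2, f, U⟩ := exists_um hU
  refine ⟨F, i1, i2, U.card, ?_⟩
  refine exists_equiv_psu R.fd (center_eq_bot R) ?_ U.card U.herm U.dim hn f U.ne U.iso U.comm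
    U.inj U.surj
  intro a ha b hb hab c hc hall
  exact hyp_of_um U R.fd (le_refl _) (fun x _ y hy => cj_mem R.fd hy) hn ha hb hab hc hall

/-- (4d) -/
theorem psu_of_isU (hD : FGroup D) {n : ℕ} (hn : 4 ≤ n) (hU : IsU n D) :
    ∃ (F : Type) (_ : Field F) (_ : Fintype F), Fintype.card F = 4 ∧
      Nonempty (G ≃* PSU n F 2) := by
  obtain ⟨F, i1, i2, hF, e, -⟩ := exists_equiv (Cfsg.Agent.Fischer160.Cases.rk hD) hn hU
  exact ⟨F, i1, i2, hF, ⟨e⟩⟩

end Cfsg.Agent.S0480U.PsuOfU
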